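import Cfsg.Agent.LieTori.RankBound

/-! The rank bound for the seven tabulated types (owner: helper35). -/

set_option autoImplicit false

namespace Cfsg.Agent.LieTori

open Cfsg.Lie Cfsg.Agent.ChevGrp Matrix Polynomial
open Cfsg.Agent.CoxTower.Tables

theorem weylG2 : WeylOrder chevG2 [2, 6].prod :=
  ⟨CoxeterMatrix.G₂, (S1092.result (⟨2, CoxeterMatrix.G₂⟩, 12) (by simp)).trans (by norm_num),
    fun _ hw => word_eq_one_iffG2 hw⟩

theorem weylB2 : WeylOrder chevB2 [2, 4].prod :=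
  ⟨CoxeterMatrix.B 2, (S1092.result (⟨2, CoxeterMatrix.B 2⟩, 8) (by simp)).trans (by norm_num),
    fun _ hw => word_eq_one_iffB2 hw⟩

theorem weylD4 : WeylOrder chevD4 [2, 4, 4, 6].prod :=
  ⟨coxeterD4, (S1092.result (⟨4, coxeterD4⟩, 192) (by simp)).trans (by norm_num),
    fun _ hw => word_eq_one_iffD4 hw⟩

theorem weylF4 : WeylOrder chevF4 [2, 6, 8, 12].prod :=
  ⟨CoxeterMatrix.F₄, (S1092.result (⟨4, CoxeterMatrix.F₄⟩, 1152) (by simp)).trans (by norm_num),
    fun _ hw => word_eq_one_iffF4 hw⟩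

theorem weylE6 : WeylOrder chevE6 [2, 5, 6, 8, 9, 12].prod :=
  ⟨CoxeterMatrix.E₆, (S1093.result (⟨6, CoxeterMatrix.E₆⟩, 51840) (by simp)).trans (by norm_num),
    fun _ hw => word_eq_one_iffE6 hw⟩

theorem weylE7 : WeylOrder chevE7 [2, 6, 8, 10, 12, 14, 18].prod :=
  ⟨CoxeterMatrix.E₇, (S1093.result (⟨7, CoxeterMatrix.E₇⟩, 2903040) (by simp)).trans (by norm_num),
    fun _ hw => word_eq_one_iffE7 hw⟩

theorem weylE8 : WeylOrder chevE8 [2, 8, 12, 14, 18, 20, 24, 30].prod :=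
  ⟨CoxeterMatrix.E₈, (S1093.result (⟨8, CoxeterMatrix.E₈⟩, 696729600) (by simp)).trans (by norm_num),
    fun _ hw => word_eq_one_iffE8 hw⟩

/-- Integer certificate of a nonzero determinant. -/
theorem det_ne_zero_of_mul {l : ℕ} {A B : Matrix (Fin l) (Fin l) ℤ} {c : ℤ} (hc : c ≠ 0) (h : A * B = c • 1) :
    A.det ≠ 0 := fun h0 => by
  have := congrArg Matrix.det h
  rw [Matrix.det_mul, h0, zero_mul, Matrix.det_smul, Matrix.det_one, mul_one] at this
  exact pow_ne_zero _ hc this.symm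

theorem rules (D : ChevalleyDatum) (hD : D ∈ [chevG2, chevB2, chevD4, chevF4, chevE6, chevE7, chevE8]) :
    Rules D ℚ := Chev.rules_of_mem ℚ hD

theorem cartG2 : (cartanMat chevG2).det ≠ 0 := by
  show Matrix.det (n := Fin 2) (cartanMat chevG2 : Matrix (Fin 2) (Fin 2) ℤ) ≠ 0
  erw [Matrix.det_fin_two]
  decide +kernel

theorem cartB2 : (cartanMat chevB2).det ≠ 0 := by
  show Matrix.det (n := Fin 2) (cartanMat chevB2 : Matrix (Fin 2) (Fin 2) ℤ) ≠ 0
  erw [Matrix.det_fin_two]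
  decide +kernel

/-- The Cartan matrix of type `D4`. -/
def cartD4 : Matrix (Fin 4) (Fin 4) ℤ := !![2, -1, 0, 0; -1, 2, -1, -1; 0, -1, 2, 0; 0, -1, 0, 2]

theorem eqD4 : (cartanMat chevD4 : Matrix (Fin 4) (Fin 4) ℤ) = cartD4 := by
  have h : ∀ p : Fin 4 × Fin 4, chevD4.cartan p.1 (chevD4.simple p.2) = cartD4 p.1 p.2 := by decide +kernel
  exact Matrix.ext fun i j => h (i, j)

theorem detD4 : cartD4.det = 4 := by
  simp [cartD4, Matrix.det_succ_row_zero, Fin.sum_univ_succ, Fin.succAbove]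

theorem eqE6 : (cartanMat chevE6 : Matrix (Fin 6) (Fin 6) ℤ) = cartE6 := by
  have h : ∀ p : Fin 6 × Fin 6, chevE6.cartan p.1 (chevE6.simple p.2) = cartE6 p.1 p.2 := by decide +kernel
  exact Matrix.ext fun i j => h (i, j)

theorem eqE7 : (cartanMat chevE7 : Matrix (Fin 7) (Fin 7) ℤ) = cartE7 := by
  have h : ∀ p : Fin 7 × Fin 7, chevE7.cartan p.1 (chevE7.simple p.2) = cartE7 p.1 p.2 := by decide +kernel
  exact Matrix.ext fun i j => h (i, j)

theorem cartF4 : (cartanMat chevF4 : Matrix (Fin 4) (Fin 4) ℤ).det ≠ 0 :=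
  det_ne_zero_of_mul (c := 1) one_ne_zero
    (B := !![2, 3, 4, 2; 3, 6, 8, 4; 2, 4, 6, 3; 1, 2, 3, 2]) (by decide +kernel)

theorem cartE8 : (cartanMat chevE8 : Matrix (Fin 8) (Fin 8) ℤ).det ≠ 0 :=
  det_ne_zero_of_mul (c := 1) one_ne_zero
    (B := !![4, 5, 7, 10, 8, 6, 4, 2; 5, 8, 10, 15, 12, 9, 6, 3; 7, 10, 14, 20, 16, 12, 8, 4;
      10, 15, 20, 30, 24, 18, 12, 6; 8, 12, 16, 24, 20, 15, 10, 5; 6, 9, 12, 18, 15, 12, 8, 4;
      4, 6, 8, 12, 10, 8, 6, 3; 2, 3, 4, 6, 5, 4, 3, 2]) (by decide +kernel)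

theorem rankBoundG2 : RankBound chevG2 [2, 6] :=
  rankBound_of_table ℚ (rules _ (by simp)) weylG2 cartG2 [] (by decide) (by decide +kernel) (by simp)

theorem rankBoundB2 : RankBound chevB2 [2, 4] :=
  rankBound_of_table ℚ (rules _ (by simp)) weylB2 cartB2 [] (by decide) (by decide +kernel) (by simp)

theorem rankBoundF4 : RankBound chevF4 [2, 6, 8, 12] :=
  rankBound_of_table ℚ (rules _ (by simp)) weylF4 cartF4 [] (by decide) (by decide +kernel) (by simp)

theorem rankBoundE8 : RankBound chevE8 [2, 8, 12, 14, 18, 20, 24, 30] :=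
  rankBound_of_table ℚ (rules _ (by simp)) weylE8 cartE8 [] (by decide) (by decide +kernel) (by simp)

theorem rankBoundD4 : RankBound chevD4 [2, 4, 4, 6] := by
  refine rankBound_of_table ℚ (rules _ (by simp)) weylD4 (eqD4 ▸ (detD4.symm ▸ (by norm_num) : cartD4.det ≠ 0))
    [3, 6] (by decide) (by decide +kernel) ?_
  intro d hd w hM hN hdvd
  simp only [List.mem_cons, List.not_mem_nil, or_false] at hd
  have hA : (cartanMat chevD4 : Matrix (Fin 4) (Fin 4) ℤ) = cartD4 := eqD4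
  rcases hd with rfl | rfl
  · exact false_of_full_cyclotomic (A := cartanMat chevD4) (l := 4) hN hM w rfl (by decide)
      eval_cyclotomic_three (by rw [hA, detD4]; norm_num) hdvd
  · exact false_of_full_cyclotomic (A := cartanMat chevD4) (l := 4) hN hM w rfl (by decide)
      eval_cyclotomic_six (by rw [hA, detD4]; norm_num) hdvd

theorem rankBoundE6 : RankBound chevE6 [2, 5, 6, 8, 9, 12] := by
  refine rankBound_of_table ℚ (rules _ (by simp)) weylE6 (eqE6 ▸ (detE6.symm ▸ (by norm_num) : cartE6.det ≠ 0))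
    [2, 4, 6] (by decide) (by decide +kernel) ?_
  intro d hd w hM hN hdvd
  simp only [List.mem_cons, List.not_mem_nil, or_false] at hd
  have hA : (cartanMat chevE6 : Matrix (Fin 6) (Fin 6) ℤ) = cartE6 := eqE6
  rcases hd with rfl | rfl | rfl
  · obtain ⟨N₀, h⟩ := exists_wMat_eq (l := 6) cartE6 w
    refine e6_false (M := wMat (l := 6) cartE6 w) hN ?_ factsE6 detE6 ⟨0, by decide +kernel⟩ h
      (wMat_preserves preserveE6 w) ?_
    · rw [← hA]; exact hM
    · rw [← hA]; exact hdvd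
  · exact false_of_full_cyclotomic (A := cartanMat chevE6) (l := 6) hN hM w rfl (by decide)
      eval_cyclotomic_four (by rw [hA, detE6]; norm_num) hdvd
  · exact false_of_full_cyclotomic (A := cartanMat chevE6) (l := 6) hN hM w rfl (by decide)
      eval_cyclotomic_six (by rw [hA, detE6]; norm_num) hdvd

theorem rankBoundE7 : RankBound chevE7 [2, 6, 8, 10, 12, 14, 18] := by
  refine rankBound_of_table ℚ (rules _ (by simp)) weylE7 (eqE7 ▸ (detE7.symm ▸ (by norm_num) : cartE7.det ≠ 0))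
    [4] (by decide) (by decide +kernel) ?_
  intro d hd w hM hN hdvd
  simp only [List.mem_cons, List.not_mem_nil, or_false] at hd
  have hA : (cartanMat chevE7 : Matrix (Fin 7) (Fin 7) ℤ) = cartE7 := eqE7
  subst hd
  obtain ⟨N₀, h⟩ := exists_wMat_eq (l := 7) cartE7 w
  refine e7_false (M := wMat (l := 7) cartE7 w)
    (B' := !![2, 2, 3, 4, 3, 2, 1; 2, 3, 4, 6, 4, 3, 1; 3, 4, 6, 8, 6, 4, 2; 4, 6, 8, 12, 9, 6, 3;
      3, 4, 6, 9, 7, 5, 2; 2, 3, 4, 6, 5, 4, 2; 1, 1, 2, 3, 2, 2, 1])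
    (ω := ![0, 1, 0, 0, 1, 0, 1]) (w₀ := ![0, 1, 0, -1, 1, -1, 1]) hN ?_ factsE7 detE7
    (by decide +kernel) (by decide +kernel) (by decide +kernel) ⟨1, by decide +kernel⟩ h
    (wMat_preserves preserveE7 w) ?_
  · rw [← hA]; exact hM
  · rw [← hA]; exact hdvd

end Cfsg.Agent.LieTori
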