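import Cfsg.Agent.LieTori.SylowMain
import Cfsg.Agent.LieTori.RankBoundInst
import Cfsg.Agent.S1059
import Cfsg.Agent.S1060
import Cfsg.Agent.S1061
import Cfsg.Agent.S1062
import Cfsg.Agent.S1063
import Cfsg.Agent.S1064
import Cfsg.Agent.S1065

/-! The order formulas and determinants for the seven tabulated types (owner: helper35). -/

set_option autoImplicit false

namespace Cfsg.Agent.LieTori

open Cfsg.Lie Cfsg.Agent.ChevGrp Matrix

section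

variable (F : Type*) [Field F] [Fintype F]

theorem orderG2 : OrderFormula chevG2 [2, 6] 1 F :=
  ⟨1, 6, dvd_rfl, by
    rw [Nat.card_eq_fintype_card (α := F), S1059.result rfl]
    simp [mul_assoc]⟩

theorem orderB2 : OrderFormula chevB2 [2, 4] 2 F :=
  ⟨Nat.gcd 2 (Fintype.card F - 1), 4, Nat.gcd_dvd_left _ _, by
    rw [Nat.card_eq_fintype_card (α := F), S1060.result rfl]
    simp [mul_assoc]⟩

theorem orderD4 : OrderFormula chevD4 [2, 4, 4, 6] 4 F :=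
  ⟨Nat.gcd 2 (Fintype.card F - 1) ^ 2, 12, pow_dvd_pow_of_dvd (Nat.gcd_dvd_left _ _) 2, by
    rw [Nat.card_eq_fintype_card (α := F), S1061.result rfl]
    simp [mul_assoc]⟩

theorem orderF4 : OrderFormula chevF4 [2, 6, 8, 12] 1 F :=
  ⟨1, 24, dvd_rfl, by
    rw [Nat.card_eq_fintype_card (α := F), S1062.result rfl]
    simp [mul_assoc]⟩

theorem orderE6 : OrderFormula chevE6 [2, 5, 6, 8, 9, 12] 3 F :=
  ⟨Nat.gcd 3 (Fintype.card F - 1), 36, Nat.gcd_dvd_left _ _, by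
    rw [Nat.card_eq_fintype_card (α := F), S1063.result rfl]
    simp [mul_assoc]⟩

theorem orderE7 : OrderFormula chevE7 [2, 6, 8, 10, 12, 14, 18] 2 F :=
  ⟨Nat.gcd 2 (Fintype.card F - 1), 63, Nat.gcd_dvd_left _ _, by
    rw [Nat.card_eq_fintype_card (α := F), S1064.result rfl]
    simp [mul_assoc]⟩

theorem orderE8 : OrderFormula chevE8 [2, 8, 12, 14, 18, 20, 24, 30] 1 F :=
  ⟨1, 120, dvd_rfl, by
    rw [Nat.card_eq_fintype_card (α := F), S1065.result rfl]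
    simp [mul_assoc]⟩

end

/-- A determinant from a triangular certificate. -/
theorem det_of_triangular {l : ℕ} {A L U : Matrix (Fin l) (Fin l) ℤ} (hL : ∀ p : Fin l × Fin l, p.1 < p.2 → L p.1 p.2 = 0)
    (hU : ∀ p : Fin l × Fin l, p.2 < p.1 → U p.1 p.2 = 0) (h : A * U = L) {c : ℤ} (hU0 : ∏ i, U i i ≠ 0)
    (hc : ∏ i, L i i = c * ∏ i, U i i) : A.det = c := by
  have h1 := congrArg Matrix.det h
  rw [Matrix.det_mul, Matrix.det_of_isLowerTriangular L (fun i j hij => hL (i, j) hij),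
    Matrix.det_of_isUpperTriangular (M := U) (fun i j hij => hU (i, j) hij), hc] at h1
  exact mul_right_cancel₀ hU0 h1

theorem detG2' : (cartanMat chevG2).det = ((1 : ℕ) : ℤ) := by
  show Matrix.det (n := Fin 2) (cartanMat chevG2 : Matrix (Fin 2) (Fin 2) ℤ) = _
  erw [Matrix.det_fin_two]
  decide +kernel

theorem detB2' : (cartanMat chevB2).det = ((2 : ℕ) : ℤ) := by
  show Matrix.det (n := Fin 2) (cartanMat chevB2 : Matrix (Fin 2) (Fin 2) ℤ) = _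
  erw [Matrix.det_fin_two]
  decide +kernel

theorem detD4' : (cartanMat chevD4).det = ((4 : ℕ) : ℤ) :=
  (congrArg (Matrix.det (n := Fin 4)) eqD4).trans detD4

theorem detF4' : (cartanMat chevF4).det = ((1 : ℕ) : ℤ) := by
  show Matrix.det (n := Fin 4) (cartanMat chevF4 : Matrix (Fin 4) (Fin 4) ℤ) = _
  refine det_of_triangular (L := !![2, 0, 0, 0; -1, 3, 0, 0; 0, -2, 2, 0; 0, 0, -3, 1])
    (U := !![1, 1, 2, 2; 0, 2, 4, 4; 0, 0, 3, 3; 0, 0, 0, 2]) ?_ ?_ ?_ ?_ ?_ <;> decide +kernel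

theorem detE6' : (cartanMat chevE6).det = ((3 : ℕ) : ℤ) :=
  (congrArg (Matrix.det (n := Fin 6)) eqE6).trans detE6

theorem detE7' : (cartanMat chevE7).det = ((2 : ℕ) : ℤ) :=
  (congrArg (Matrix.det (n := Fin 7)) eqE7).trans detE7

theorem detE8' : (cartanMat chevE8).det = ((1 : ℕ) : ℤ) := by
  show Matrix.det (n := Fin 8) (cartanMat chevE8 : Matrix (Fin 8) (Fin 8) ℤ) = _
  refine det_of_triangular (L := !![2, 0, 0, 0, 0, 0, 0, 0; 0, 2, 0, 0, 0, 0, 0, 0; -1, 0, 3, 0, 0, 0, 0, 0; 0, -1, -2, 5, 0, 0, 0, 0; 0, 0, 0, -6, 4, 0, 0, 0; 0, 0, 0, 0, -5, 3, 0, 0; 0, 0, 0, 0, 0, -4, 2, 0; 0, 0, 0, 0, 0, 0, -3, 1])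
    (U := !![1, 0, 1, 2, 2, 2, 2, 2; 0, 1, 0, 3, 3, 3, 3, 3; 0, 0, 2, 4, 4, 4, 4, 4; 0, 0, 0, 6, 6, 6, 6, 6; 0, 0, 0, 0, 5, 5, 5, 5; 0, 0, 0, 0, 0, 4, 4, 4; 0, 0, 0, 0, 0, 0, 3, 3; 0, 0, 0, 0, 0, 0, 0, 2]) ?_ ?_ ?_ ?_ ?_ <;> decide +kernel

end Cfsg.Agent.LieTori
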