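import Cfsg.Agent.LieTori.CycBound
import Mathlib.LinearAlgebra.FiniteDimensional.Lemmas

/-!
The two exceptional Weyl group computations: no element of `W(E6)` has the eigenvalue `-1` with
multiplicity five, no element of `W(E7)` the eigenvalue `i` with multiplicity three (owner: helper35).

Only the Cartan matrix `A`, the matrix `B = c • A⁻¹` and the congruences `B ≡ ω ωᵀ` are used.
-/

set_option autoImplicit false

namespace Cfsg.Agent.LieTori

open Polynomial Matrix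

variable {l : ℕ}

theorem eq_pow_mul_of_dvd {N k : ℕ} {M : Matrix (Fin l) (Fin l) ℤ} (hN : N ≠ 0) (hM : M ^ N = 1) {p : ℤ[X]}
    (hp : p.Monic) (hdvd : p ^ k ∣ M.charpoly) (hdeg : l = k * p.natDegree + 1) :
    ∃ c : ℤ, (c = 1 ∨ c = -1) ∧ M.charpoly = p ^ k * (X - C c) := by
  obtain ⟨g, hg⟩ := hdvd
  have hgm : g.Monic := (hp.pow k).of_mul_monic_left (hg ▸ M.charpoly_monic)
  have hgd : g.natDegree = 1 := by
    have h := congrArg natDegree hg
    rw [M.charpoly_natDegree_eq_dim, Fintype.card_fin, (hp.pow k).natDegree_mul hgm, natDegree_pow] at h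
    omega
  have hge : g = X - C (-g.coeff 0) := by
    conv_lhs => rw [hgm.eq_X_add_C hgd]
    rw [map_neg, sub_neg_eq_add]
  refine ⟨_, ?_, hge ▸ hg⟩
  have h0 : ((X : ℤ[X]) ^ N - 1).eval (-g.coeff 0) ^ l = 0 := by
    rw [← eval_pow]
    refine eval_eq_zero_of_dvd_of_eval_eq_zero (charpoly_dvd_pow M hM) ?_
    rw [hg, hge]
    simp
  have h1 : (-g.coeff 0) ^ N = 1 := by
    have := eq_zero_of_pow_eq_zero h0
    simpa [sub_eq_zero] using this
  exact Int.isUnit_iff.1 (IsUnit.of_pow_eq_one h1 hN)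

theorem aeval_eq_zero_of_charpoly_eq {N k : ℕ} {M : Matrix (Fin l) (Fin l) ℤ} (hN : N ≠ 0) (hM : M ^ N = 1)
    {p : ℤ[X]} (h : M.charpoly = p ^ k) : aeval M p = 0 :=
  aeval_eq_zero_of_dvd_pow hN hM (M.aeval_self_charpoly) (n := k) h.dvd

theorem exists_rank_one {M P : Matrix (Fin l) (Fin l) ℤ} (hP : P ≠ 0) {c : ℤ} (hPM : P * M = c • P)
    (hc : M.charpoly.rootMultiplicity c ≤ 1) :
    ∃ u z t : Fin l → ℤ, P = vecMulVec u z ∧ z ⬝ᵥ t = 1 := by
  classical
  let φ := Int.castRingHom ℚ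
  let E : Submodule ℚ (Fin l → ℚ) := Module.End.eigenspace (Matrix.toLin' (M.map φ)ᵀ) (c : ℚ)
  have hmem : ∀ i, (fun k => (P i k : ℚ)) ∈ E := fun i => by
    rw [Module.End.mem_eigenspace_iff, Matrix.toLin'_apply, Matrix.mulVec_transpose]
    funext k
    have h := congrArg (fun x : Matrix (Fin l) (Fin l) ℤ => ((x i k : ℤ) : ℚ)) hPM
    simpa [Matrix.vecMul, dotProduct, Matrix.mul_apply, φ] using h
  have hE : Module.finrank ℚ E ≤ 1 := by
    refine (LinearMap.finrank_eigenspace_le _ _).trans ?_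
    rw [Matrix.charpoly_toLin', Matrix.charpoly_transpose, Matrix.charpoly_map]
    exact (Polynomial.eq_rootMultiplicity_map (f := φ) Int.cast_injective c).symm.trans_le hc
  obtain ⟨v, hv⟩ := finrank_le_one_iff.1 hE
  obtain ⟨i₀, k₀, hne⟩ : ∃ i k, P i k ≠ 0 := by
    by_contra h
    push Not at h
    exact hP (Matrix.ext h)
  let I : Ideal ℤ := Ideal.span (Set.range (P i₀))
  obtain ⟨g, hI⟩ := (IsPrincipalIdealRing.principal I).principal
  have hdvd : ∀ k, g ∣ P i₀ k := fun k =>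
    Ideal.mem_span_singleton.1 (hI.le (Ideal.subset_span ⟨k, rfl⟩))
  choose z hz using hdvd
  obtain ⟨t, ht⟩ := Ideal.mem_span_range_iff_exists_fun.1
    (show g ∈ I from hI.ge (Ideal.mem_span_singleton_self g))
  have hg0 : g ≠ 0 := fun h => hne (by rw [hz k₀, h, zero_mul])
  have hzt : z ⬝ᵥ t = 1 := by
    refine mul_left_cancel₀ hg0 ?_
    conv_rhs => rw [mul_one, ← ht]
    rw [dotProduct, Finset.mul_sum]
    exact Finset.sum_congr rfl fun k _ => by rw [hz k]; ring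
  refine ⟨P *ᵥ t, z, t, ?_, hzt⟩
  ext i k
  obtain ⟨a, ha⟩ := hv ⟨_, hmem i⟩
  obtain ⟨a₀, ha₀⟩ := hv ⟨_, hmem i₀⟩
  have hA : ∀ k, (P i k : ℚ) = a * (v : Fin l → ℚ) k := fun k =>
    (congrFun (congrArg Subtype.val ha) k).symm
  have hA₀ : ∀ k, (P i₀ k : ℚ) = a₀ * (v : Fin l → ℚ) k := fun k =>
    (congrFun (congrArg Subtype.val ha₀) k).symm
  have hZ : ∀ j, (g : ℚ) * z j = a₀ * (v : Fin l → ℚ) j := fun j => by
    rw [← hA₀, hz j]; push_cast; rfl
  have ha0 : a₀ ≠ 0 := fun h => hg0 (by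
    have h1 := congrArg ((g : ℤ) * ·) hzt
    have h2 : ∀ j, g * z j = 0 := fun j => by
      exact_mod_cast (hZ j).trans (show a₀ * (v : Fin l → ℚ) j = 0 by rw [h, zero_mul])
    simp only [dotProduct, Finset.mul_sum, ← mul_assoc, h2, zero_mul, Finset.sum_const_zero, mul_one] at h1
    exact h1.symm)
  have hP' : ∀ j, (P i j : ℚ) = a * g / a₀ * z j := fun j => by
    rw [hA, mul_div_right_comm, mul_assoc, hZ, ← mul_assoc, div_mul_cancel₀ _ ha0]
  have hzt' : (∑ j, (z j : ℚ) * t j) = 1 := by exact_mod_cast hzt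
  have : ((P i k : ℤ) : ℚ) = (((P *ᵥ t) i * z k : ℤ) : ℚ) := by
    simp only [Matrix.mulVec, dotProduct, Int.cast_mul, Int.cast_sum]
    simp only [hP', mul_assoc, ← Finset.mul_sum, hzt']
    ring
  exact_mod_cast this

theorem rank_one_facts {P A B : Matrix (Fin l) (Fin l) ℤ} {u z t : Fin l → ℤ} {c : ℤ} (hP0 : P ≠ 0)
    (hP : P = vecMulVec u z) (hzt : z ⬝ᵥ t = 1) (hPP : P * P = 2 • P) (hBP : (B * P)ᵀ = B * P)
    (hAB : A * B = c • 1) :
    ∃ g : ℤ, B * P = g • vecMulVec z z ∧ c • u = g • (A *ᵥ z) ∧ z ⬝ᵥ u = 2 ∧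
      g * (z ⬝ᵥ A *ᵥ z) = 2 * c := by
  have hzu : z ⬝ᵥ u = 2 := by
    have h : (z ⬝ᵥ u - 2) • P = 0 := by
      rw [sub_smul, show (2 : ℤ) • P = 2 • P from natCast_zsmul P 2, ← hPP, hP, Matrix.vecMulVec_mul_vecMulVec,
        Matrix.vecMulVec_smul, sub_self]
    exact sub_eq_zero.1 ((smul_eq_zero.1 h).resolve_right hP0)
  have hBu : B *ᵥ u = (t ⬝ᵥ (B *ᵥ u)) • z := by
    rw [hP, Matrix.mul_vecMulVec, Matrix.transpose_vecMulVec] at hBP
    have h := congrArg (· *ᵥ t) hBP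
    simp only [Matrix.vecMulVec_mulVec, hzt] at h
    rw [dotProduct_comm t]
    simpa using h.symm
  refine ⟨t ⬝ᵥ (B *ᵥ u), ?_, ?_, hzu, ?_⟩
  · rw [hP, Matrix.mul_vecMulVec]
    conv_lhs => rw [hBu]
    rw [Matrix.smul_vecMulVec]
  · rw [← Matrix.mulVec_smul, ← hBu, Matrix.mulVec_mulVec, hAB, Matrix.smul_mulVec, Matrix.one_mulVec]
  · have h : c • u = (t ⬝ᵥ (B *ᵥ u)) • (A *ᵥ z) := by
      rw [← Matrix.mulVec_smul, ← hBu, Matrix.mulVec_mulVec, hAB, Matrix.smul_mulVec, Matrix.one_mulVec]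
    have h' := congrArg (z ⬝ᵥ ·) h
    simp only [dotProduct_smul, hzu, smul_eq_mul] at h'
    linarith

theorem mul_transpose_of_sq {M B : Matrix (Fin l) (Fin l) ℤ} (hB : Bᵀ = B) (hMB : Mᵀ * B * M = B)
    (hM : M * M = 1) : (B * M)ᵀ = B * M := by
  calc (B * M)ᵀ = Mᵀ * B * (M * M) := by rw [hM, mul_one, Matrix.transpose_mul, hB]
    _ = Mᵀ * B * M * M := by simp only [mul_assoc]
    _ = B * M := by rw [hMB]

/-- The data of a Cartan matrix used in the two exceptional cases. -/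
structure CartanFacts (A B : Matrix (Fin l) (Fin l) ℤ) (c : ℤ) : Prop where
  symA : Aᵀ = A
  symB : Bᵀ = B
  mulAB : A * B = c • 1
  mulBA : B * A = c • 1
  quad : ∀ x : Fin l → ℤ, ∃ s : ℤ, 0 ≤ s ∧ x ⬝ᵥ A *ᵥ x = 2 * s

theorem e6_false {M A B N₀ : Matrix (Fin 6) (Fin 6) ℤ} {N : ℕ} (hN : N ≠ 0) (hM : M ^ N = 1)
    (hA : CartanFacts A B 3) (hdet : A.det = 3) (hk : ∃ k, B k k % 3 = 1) (hMA : M = 1 + A * N₀)
    (hMB : Mᵀ * B * M = B) (hdvd : cyclotomic 2 ℤ ^ 5 ∣ M.charpoly) : False := by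
  rw [cyclotomic_two] at hdvd
  have hp : (X + 1 : ℤ[X]).Monic := monic_X_add_C 1
  have hpd : (X + 1 : ℤ[X]).natDegree = 1 := natDegree_X_add_C 1
  obtain ⟨c, hc, hchar⟩ := eq_pow_mul_of_dvd hN hM hp hdvd (by rw [hpd])
  have hne : ∀ {p : ℤ[X]}, p = X + 1 → aeval M p ≠ 0 := fun hpe h => by
    refine false_of_aeval_eq_zero hMA h ?_
    rw [hdet, hpe]
    norm_num
  rcases hc with rfl | rfl
  swap
  · refine hne rfl (aeval_eq_zero_of_charpoly_eq (k := 6) hN hM ?_)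
    rw [hchar, map_neg, map_one, sub_neg_eq_add, ← pow_succ]
  have h0 : aeval M ((X + 1) * (X - C (1 : ℤ))) = 0 :=
    aeval_eq_zero_of_dvd_pow (n := 5) hN hM M.aeval_self_charpoly (by
      rw [hchar, mul_pow]
      exact mul_dvd_mul_left _ (dvd_pow_self _ (by norm_num)))
  simp only [map_mul, map_sub, map_add, aeval_X, map_one] at h0
  have hMM : M * M = 1 := by
    have : M * M - 1 = (M + 1) * (M - 1) := by noncomm_ring
    rwa [h0, sub_eq_zero] at this
  have hP0 : M + 1 ≠ 0 := by simpa using hne (p := X + 1) rfl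
  have hmult : M.charpoly.rootMultiplicity (1 : ℤ) ≤ 1 := by
    rw [hchar, rootMultiplicity_mul (mul_ne_zero (pow_ne_zero _ hp.ne_zero) (X_sub_C_ne_zero _)),
      rootMultiplicity_X_sub_C_self, rootMultiplicity_eq_zero (by simp)]
  obtain ⟨u, z, t, hP, hzt⟩ := exists_rank_one (M := M) (P := M + 1) hP0 (c := 1)
    (by rw [one_smul, add_mul, one_mul, hMM, add_comm]) hmult
  obtain ⟨g, hBP, -, -, hg⟩ := rank_one_facts hP0 hP hzt
    (by simp only [add_mul, mul_add, hMM, one_mul, mul_one]; abel)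
    (by rw [mul_add, mul_one, Matrix.transpose_add, mul_transpose_of_sq hA.symB hMB hMM, hA.symB]) hA.mulAB
  obtain ⟨s, hs, hsq⟩ := hA.quad z
  obtain ⟨k, hk⟩ := hk
  have h3 : B * (M + 1) = 2 • B + (3 : ℤ) • N₀ := by
    rw [hMA, show (1 + A * N₀ + 1) = 2 • (1 : Matrix (Fin 6) (Fin 6) ℤ) + A * N₀ by abel, mul_add,
      mul_smul_comm, mul_one, ← mul_assoc, hA.mulBA, smul_mul_assoc, one_mul]
  have h4 := congrFun (congrFun (h3.symm.trans hBP) k) k
  simp only [Matrix.add_apply, Matrix.smul_apply, vecMulVec_apply, smul_eq_mul, two_nsmul] at h4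
  rw [hsq] at hg
  have hgs : g * s = 3 := by linarith
  have hgpos : 0 < g := by
    rcases le_or_gt g 0 with h | h
    · have := mul_nonpos_of_nonpos_of_nonneg h hs
      omega
    · exact h
  have hg' : g ≤ 3 := Int.le_of_dvd (by norm_num) ⟨s, hgs.symm⟩
  have hsq3 : z k * z k % 3 = 0 ∨ z k * z k % 3 = 1 := by
    have h1 := Int.mul_emod (z k) (z k) 3
    have : z k % 3 = 0 ∨ z k % 3 = 1 ∨ z k % 3 = 2 := by omega
    rcases this with e | e | e <;> rw [e] at h1 <;> omega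
  generalize z k * z k = w at h4 hsq3
  interval_cases g <;> omega

theorem e7_false {M A B B' N₀ : Matrix (Fin 7) (Fin 7) ℤ} {N : ℕ} {ω w₀ : Fin 7 → ℤ} (hN : N ≠ 0)
    (hM : M ^ N = 1) (hA : CartanFacts A B 2) (hdet : A.det = 2) (hB : B = vecMulVec ω ω + 2 • B')
    (hw : A *ᵥ ω = (2 : ℤ) • w₀) (hω8 : (ω ⬝ᵥ A *ᵥ ω) % 8 = 6) (hωodd : ∃ k, ω k % 2 = 1)
    (hMA : M = 1 + A * N₀) (hMB : Mᵀ * B * M = B) (hdvd : cyclotomic 4 ℤ ^ 3 ∣ M.charpoly) : False := by
  have h4 : cyclotomic 4 ℤ = X ^ 2 + 1 := by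
    rw [show 4 = 2 ^ (1 + 1) from rfl, cyclotomic_prime_pow_eq_geom_sum Nat.prime_two]
    norm_num [Finset.sum_range_succ]
    ring
  rw [h4] at hdvd
  have hp : (X ^ 2 + 1 : ℤ[X]).Monic := monic_X_pow_add_C 1 (by norm_num)
  have hpd : (X ^ 2 + 1 : ℤ[X]).natDegree = 2 := natDegree_X_pow_add_C
  obtain ⟨c, hc, hchar⟩ := eq_pow_mul_of_dvd hN hM hp hdvd (by rw [hpd])
  have hP0 : M * M + 1 ≠ 0 := fun h => by
    refine false_of_aeval_eq_zero hMA (p := X ^ 2 + 1) (by simpa [sq] using h) ?_ |>.elim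
    rw [hdet]
    intro hd
    have h2 := congrArg Matrix.det (eq_neg_of_add_eq_zero_left h)
    rw [Matrix.det_mul, Matrix.det_neg, Matrix.det_one, Fintype.card_fin] at h2
    have := mul_self_nonneg M.det
    norm_num at h2
    linarith
  have h0 : aeval M ((X ^ 2 + 1) * (X - C c)) = 0 :=
    aeval_eq_zero_of_dvd_pow (n := 3) hN hM M.aeval_self_charpoly (by
      rw [hchar, mul_pow]
      exact mul_dvd_mul_left _ (dvd_pow_self _ (by norm_num)))
  simp only [map_mul, map_sub, map_add, aeval_X, map_one, aeval_C, sq,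
    Algebra.algebraMap_eq_smul_one] at h0
  have hPM : (M * M + 1) * M = c • (M * M + 1) := by
    rw [mul_sub, sub_eq_zero] at h0
    rw [h0, mul_smul_comm, mul_one]
  have hc2 : c * c = 1 := by rcases hc with rfl | rfl <;> norm_num
  have hM4 : M * M * (M * M) = 1 := by
    have h1 : (M * M + 1) * (M * M) = M * M + 1 := by
      rw [← mul_assoc, hPM, smul_mul_assoc, hPM, smul_smul, hc2, one_smul]
    rw [add_mul, one_mul] at h1
    exact add_right_cancel (h1.trans (add_comm _ _))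
  have hmult : M.charpoly.rootMultiplicity c ≤ 1 := by
    rw [hchar, rootMultiplicity_mul (mul_ne_zero (pow_ne_zero _ hp.ne_zero) (X_sub_C_ne_zero _)),
      rootMultiplicity_X_sub_C_self, rootMultiplicity_eq_zero (by simp [sq, hc2])]
  obtain ⟨u, z, t, hP, hzt⟩ := exists_rank_one hP0 hPM hmult
  have hMB2 : (M * M)ᵀ * B * (M * M) = B := by
    calc (M * M)ᵀ * B * (M * M) = Mᵀ * (Mᵀ * B * M) * M := by simp [Matrix.transpose_mul, mul_assoc]
      _ = B := by rw [hMB, hMB]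
  obtain ⟨g, hBP, -, hzu, hg⟩ := rank_one_facts hP0 hP hzt
    (by simp only [add_mul, mul_add, hM4, one_mul, mul_one]; abel)
    (by rw [mul_add, mul_one, Matrix.transpose_add, mul_transpose_of_sq hA.symB hMB2 hM4, hA.symB]) hA.mulAB
  have hBA : ∀ x : Fin 7 → ℤ, B *ᵥ (A *ᵥ x) = (2 : ℤ) • x := fun x => by
    rw [Matrix.mulVec_mulVec, hA.mulBA, Matrix.smul_mulVec, Matrix.one_mulVec]
  have hsym : ∀ {S : Matrix (Fin 7) (Fin 7) ℤ}, Sᵀ = S → ∀ x y : Fin 7 → ℤ,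
      x ⬝ᵥ S *ᵥ y = y ⬝ᵥ S *ᵥ x := fun {S} hS x y => by
    rw [dotProduct_comm, ← Matrix.vecMul_transpose, ← Matrix.dotProduct_mulVec, hS]
  -- `g` is even
  have hgev : ∀ i j, 2 ∣ g * (z i * z j) := fun i j => by
    have h : B * (M * M + 1) = 2 • B + (2 : ℤ) • (N₀ * M + N₀) := by
      rw [show M * M + 1 = 2 • (1 : Matrix (Fin 7) (Fin 7) ℤ) + A * (N₀ * M + N₀) by
        rw [mul_add, ← mul_assoc, show A * N₀ = M - 1 by rw [hMA]; abel, sub_mul, one_mul]; abel, mul_add,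
        mul_smul_comm, mul_one, ← mul_assoc, hA.mulBA, smul_mul_assoc, one_mul]
    have h2 := congrFun (congrFun (h.symm.trans hBP) i) j
    simp only [Matrix.add_apply, Matrix.smul_apply, vecMulVec_apply, smul_eq_mul, two_nsmul] at h2
    omega
  obtain ⟨k, hk⟩ : ∃ k, z k % 2 = 1 := by
    by_contra hcon
    push Not at hcon
    have h2 : (2 : ℤ) ∣ z ⬝ᵥ t := Finset.dvd_sum fun i _ =>
      (show (2 : ℤ) ∣ z i by have := hcon i; omega).mul_right _
    rw [hzt] at h2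
    norm_num at h2
  have hg2 : 2 ∣ g := by
    rcases Int.prime_two.dvd_mul.1 (hgev k k) with h | h
    · exact h
    · rcases Int.prime_two.dvd_mul.1 h with h | h <;> omega
  obtain ⟨s, hs, hsq⟩ := hA.quad z
  have hzAz : z ⬝ᵥ A *ᵥ z = 2 := by
    obtain ⟨g', rfl⟩ := hg2
    rw [hsq] at hg ⊢
    have h1 : g' * s = 1 := by linarith
    rcases Int.eq_one_or_neg_one_of_mul_eq_one' h1 with ⟨-, rfl⟩ | ⟨-, rfl⟩ <;> omega
  by_cases hzω : ∀ i, (z i - ω i) % 2 = 0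
  · choose y hy using fun i => Int.dvd_of_emod_eq_zero (hzω i)
    have hz : z = ω + (2 : ℤ) • y := funext fun i => by
      simp only [Pi.add_apply, Pi.smul_apply, smul_eq_mul]; linarith [hy i]
    obtain ⟨s', -, hs'⟩ := hA.quad y
    have e : z ⬝ᵥ A *ᵥ z = ω ⬝ᵥ A *ᵥ ω + 4 * (y ⬝ᵥ A *ᵥ ω) + 4 * (y ⬝ᵥ A *ᵥ y) := by
      simp only [hz, Matrix.mulVec_add, Matrix.mulVec_smul, dotProduct_add, add_dotProduct,
        dotProduct_smul, smul_dotProduct, hsym hA.symA ω y]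
      simp only [smul_eq_mul]
      ring
    simp only [hzAz, hs', hw, dotProduct_smul, smul_eq_mul] at e hω8
    omega
  · push Not at hzω
    obtain ⟨i, hi⟩ := hzω
    have hex : ∃ x : Fin 7 → ℤ, z ⬝ᵥ x = 0 ∧ (ω ⬝ᵥ x) % 2 = 1 := by
      by_contra hno
      push Not at hno
      have hall : ∀ j, (ω j - z j * (ω ⬝ᵥ t)) % 2 = 0 := fun j => by
        have hx := hno (Pi.single j 1 - z j • t) (by
        rw [dotProduct_sub, dotProduct_single, mul_one, dotProduct_smul, hzt, smul_eq_mul, mul_one,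
          sub_self])
        rw [dotProduct_sub, dotProduct_single, mul_one, dotProduct_smul, smul_eq_mul] at hx
        omega
      obtain ⟨k', hk'⟩ := hωodd
      have hs : (ω ⬝ᵥ t) % 2 = 1 := by
        by_contra hne
        have := hall k'
        rw [Int.sub_emod, Int.mul_emod, show (ω ⬝ᵥ t) % 2 = 0 by omega] at this
        simp at this
        omega
      have := hall i
      rw [Int.sub_emod, Int.mul_emod, hs] at this
      simp at this
      omega
    obtain ⟨x, hzx, hωx⟩ := hex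
    have hM2x : M *ᵥ (M *ᵥ x) = -x := by
      have h := congrArg (· *ᵥ x) hP
      simp only [Matrix.add_mulVec, Matrix.one_mulVec, Matrix.vecMulVec_mulVec, hzx] at h
      rw [Matrix.mulVec_mulVec]
      refine eq_neg_of_add_eq_zero_left (h.trans ?_)
      simp
    have hinv : ∀ a b : Fin 7 → ℤ, (M *ᵥ a) ⬝ᵥ B *ᵥ (M *ᵥ b) = a ⬝ᵥ B *ᵥ b := fun a b => by
      rw [← Matrix.vecMul_transpose, ← Matrix.dotProduct_mulVec, Matrix.mulVec_mulVec, Matrix.mulVec_mulVec,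
        hMB]
    have hxMx : x ⬝ᵥ B *ᵥ (M *ᵥ x) = 0 := by
      have h := hinv x (M *ᵥ x)
      rw [hM2x, Matrix.mulVec_neg, dotProduct_neg, hsym hA.symB] at h
      linarith
    obtain ⟨s', -, hs'⟩ := hA.quad (N₀ *ᵥ x)
    have hn : 2 * (x ⬝ᵥ B *ᵥ x) = 4 * s' := by
      have e : A *ᵥ (N₀ *ᵥ x) = M *ᵥ x - x := by
        rw [Matrix.mulVec_mulVec, show A * N₀ = M - 1 by rw [hMA]; abel, Matrix.sub_mulVec,
          Matrix.one_mulVec]
      have h1 : (A *ᵥ (N₀ *ᵥ x)) ⬝ᵥ B *ᵥ (A *ᵥ (N₀ *ᵥ x)) = 4 * s' := by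
        rw [hBA, dotProduct_smul, dotProduct_comm, hs', smul_eq_mul]
        ring
      rw [e, Matrix.mulVec_sub, sub_dotProduct, dotProduct_sub, dotProduct_sub, hinv,
        hsym hA.symB (M *ᵥ x) x, hxMx] at h1
      linarith
    have hodd : (x ⬝ᵥ B *ᵥ x) % 2 = 1 := by
      rw [hB, Matrix.add_mulVec, dotProduct_add, Matrix.smul_mulVec, dotProduct_smul, nsmul_eq_mul,
        Matrix.vecMulVec_mulVec, dotProduct_smul]
      simp [dotProduct_comm x ω, Int.add_emod, Int.mul_emod, hωx]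
    omega

end Cfsg.Agent.LieTori
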