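import Cfsg.Agent.LieTori.RootMatrix
import Cfsg.Agent.LieTori.Exceptional
import Cfsg.Agent.Chev.Rules
import Cfsg.Agent.Coxeter.RootAction
import Cfsg.Agent.S1092
import Cfsg.Agent.S1093

/-!
The eigenspace of a Weyl group element modulo a prime not dividing the order of the Weyl group has dimension
at most the number of degrees divisible by the order of the eigenvalue (owner: helper35).
-/

set_option autoImplicit false
set_option linter.style.haveILetI false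

namespace Cfsg.Agent.LieTori

open Cfsg.Lie Cfsg.Agent.ChevGrp Matrix Polynomial

/-- The bound by the degrees `L`. -/
def RankBound (D : ChevalleyDatum) (L : List ℕ) : Prop :=
  ∀ (w : List (Fin D.rank)) (r : ℕ) [Fact r.Prime], ¬ r ∣ L.prod → ∀ ζ : ZMod r, ζ ≠ 0 →
    (∃ e ∈ L, orderOf ζ ∣ e) →
    Module.finrank (ZMod r) (eigMod (wMat (cartanMat D) w) ζ) ≤
      (L.filter fun e => orderOf ζ ∣ e).length

theorem rankBound_of_table {D : ChevalleyDatum} (F : Type) [Field F] (hS : Rules D F) {L : List ℕ}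
    (hN : WeylOrder D L.prod) (hdet : (cartanMat D).det ≠ 0) (exc : List ℕ)
    (hle : ∀ e ∈ L, 1 ≤ e ∧ e < 31)
    (htab : (List.range 31).filter (fun d => decide (1 ≤ d) && decide (0 < (L.filter fun e => d ∣ e).length) &&
      decide (((L.filter fun e => d ∣ e).length + 1) * d.totient ≤ D.rank)) = exc)
    (hexc : ∀ d ∈ exc, ∀ w : List (Fin D.rank), wMat (cartanMat D) w ^ L.prod = 1 → L.prod ≠ 0 →
      ¬ cyclotomic d ℤ ^ ((L.filter fun e => d ∣ e).length + 1) ∣ (wMat (cartanMat D) w).charpoly) :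
    RankBound D L := by
  intro w r _ hr ζ hζ hex
  obtain ⟨len, hR⟩ := hS.root
  have hM := wMat_pow_eq_one hR hN hdet w
  have hd : 0 < orderOf ζ := orderOf_pos_iff.2 <| isOfFinOrder_iff_pow_eq_one.2
    ⟨r - 1, Nat.sub_pos_of_lt (Fact.out : r.Prime).one_lt, ZMod.pow_card_sub_one_eq_one hζ⟩
  by_contra hlt
  push Not at hlt
  have h1 := mul_totient_le hM hr hd (rfl : orderOf ζ = _)
  have h2 : ((L.filter fun e => orderOf ζ ∣ e).length + 1) * (orderOf ζ).totient ≤ D.rank :=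
    le_trans (Nat.mul_le_mul_right _ hlt) h1
  obtain ⟨e, he, hde⟩ := hex
  have h4 : orderOf ζ < 31 := lt_of_le_of_lt (Nat.le_of_dvd (hle e he).1 hde) (hle e he).2
  have h5 : 0 < (L.filter fun e => orderOf ζ ∣ e).length :=
    List.length_pos_of_mem (List.mem_filter.2 ⟨he, by simpa using hde⟩)
  have h6 : orderOf ζ ∈ exc := htab ▸ List.mem_filter.2 ⟨List.mem_range.2 h4, by
    simp only [Bool.and_eq_true, decide_eq_true_eq]
    exact ⟨⟨Nat.one_le_iff_ne_zero.2 hd.ne', h5⟩, h2⟩⟩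
  exact hexc _ h6 w hM (fun h => hr (h ▸ dvd_zero r))
    ((pow_dvd_pow _ hlt).trans (cyclotomic_pow_dvd_charpoly hM hr hd rfl))

theorem false_of_full {l N k : ℕ} {M A N₀ : Matrix (Fin l) (Fin l) ℤ} (hN : N ≠ 0) (hM : M ^ N = 1)
    (hMA : M = 1 + A * N₀) {p : ℤ[X]} (hp : p.Monic) (hdeg : l = k * p.natDegree)
    (hdet : ¬ A.det ∣ p.eval 1 ^ l) (hdvd : p ^ k ∣ M.charpoly) : False :=
  false_of_aeval_eq_zero hMA (aeval_eq_zero_of_charpoly_eq hN hM
    (Polynomial.eq_of_monic_of_dvd_of_natDegree_le (hp.pow k) M.charpoly_monic hdvd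
      (by rw [M.charpoly_natDegree_eq_dim, Fintype.card_fin, natDegree_pow, ← hdeg]))) hdet

theorem false_of_full_cyclotomic {l N k d : ℕ} {M A : Matrix (Fin l) (Fin l) ℤ} (hN : N ≠ 0) (hM : M ^ N = 1)
    (w : List (Fin l)) (hw : M = wMat A w) (hdeg : l = k * d.totient) {c : ℤ}
    (hc : (cyclotomic d ℤ).eval 1 = c) (hdet : ¬ A.det ∣ c ^ l) (hdvd : cyclotomic d ℤ ^ k ∣ M.charpoly) :
    False := by
  obtain ⟨N₀, h⟩ := exists_wMat_eq A w
  exact false_of_full hN hM (hw.trans h) (cyclotomic.monic d ℤ) (by rw [natDegree_cyclotomic, ← hdeg])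
    (hc.symm ▸ hdet) hdvd

theorem eval_cyclotomic_four : (cyclotomic 4 ℤ).eval 1 = 2 := by
  haveI := Fact.mk Nat.prime_two
  simpa using eval_one_cyclotomic_prime_pow (R := ℤ) (p := 2) 1

theorem eval_cyclotomic_six : (cyclotomic 6 ℤ).eval 1 = 1 := by
  refine eval_one_cyclotomic_not_prime_pow fun {p} hp k h => ?_
  have h2 : 2 ∣ p ^ k := h ▸ by norm_num
  have h3 : 3 ∣ p ^ k := h ▸ by norm_num
  have e2 := (Nat.prime_dvd_prime_iff_eq Nat.prime_two hp).1 (Nat.prime_two.dvd_of_dvd_pow h2)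
  have e3 := (Nat.prime_dvd_prime_iff_eq Nat.prime_three hp).1 (Nat.prime_three.dvd_of_dvd_pow h3)
  omega

theorem eval_cyclotomic_three : (cyclotomic 3 ℤ).eval 1 = 3 := by
  simp [cyclotomic_three]

/-- The Cartan matrix of type `E6`. -/
def cartE6 : Matrix (Fin 6) (Fin 6) ℤ :=
  !![2, 0, -1, 0, 0, 0; 0, 2, 0, -1, 0, 0; -1, 0, 2, -1, 0, 0; 0, -1, -1, 2, -1, 0; 0, 0, 0, -1, 2, -1;
     0, 0, 0, 0, -1, 2]

/-- Three times the inverse of the Cartan matrix of type `E6`. -/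
def invE6 : Matrix (Fin 6) (Fin 6) ℤ :=
  !![4, 3, 5, 6, 4, 2; 3, 6, 6, 9, 6, 3; 5, 6, 10, 12, 8, 4; 6, 9, 12, 18, 12, 6; 4, 6, 8, 12, 10, 5;
     2, 3, 4, 6, 5, 4]

/-- The Cartan matrix of type `E7`. -/
def cartE7 : Matrix (Fin 7) (Fin 7) ℤ :=
  !![2, 0, -1, 0, 0, 0, 0; 0, 2, 0, -1, 0, 0, 0; -1, 0, 2, -1, 0, 0, 0; 0, -1, -1, 2, -1, 0, 0;
     0, 0, 0, -1, 2, -1, 0; 0, 0, 0, 0, -1, 2, -1; 0, 0, 0, 0, 0, -1, 2]

/-- Twice the inverse of the Cartan matrix of type `E7`. -/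
def invE7 : Matrix (Fin 7) (Fin 7) ℤ :=
  !![4, 4, 6, 8, 6, 4, 2; 4, 7, 8, 12, 9, 6, 3; 6, 8, 12, 16, 12, 8, 4; 8, 12, 16, 24, 18, 12, 6;
     6, 9, 12, 18, 15, 10, 5; 4, 6, 8, 12, 10, 8, 4; 2, 3, 4, 6, 5, 4, 3]

theorem quad_of_cert {l : ℕ} {A U L : Matrix (Fin l) (Fin l) ℤ} {w : Fin l → ℤ} {m : ℤ} (hm : 0 < m)
    (hU : A = U + Uᵀ) (hw : ∀ i, 0 ≤ w i) (hL : m • A = Lᵀ * Matrix.diagonal w * L) (x : Fin l → ℤ) :
    ∃ s : ℤ, 0 ≤ s ∧ x ⬝ᵥ A *ᵥ x = 2 * s := by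
  have h1 : x ⬝ᵥ A *ᵥ x = 2 * (x ⬝ᵥ U *ᵥ x) := by
    rw [hU, Matrix.add_mulVec, dotProduct_add,
      show x ⬝ᵥ Uᵀ *ᵥ x = x ⬝ᵥ U *ᵥ x by
        rw [Matrix.mulVec_transpose, dotProduct_comm, ← Matrix.dotProduct_mulVec]]
    ring
  refine ⟨_, ?_, h1⟩
  have h2 : 0 ≤ m * (x ⬝ᵥ A *ᵥ x) := by
    have e : m * (x ⬝ᵥ A *ᵥ x) = (L *ᵥ x) ⬝ᵥ Matrix.diagonal w *ᵥ (L *ᵥ x) := by
      rw [← smul_eq_mul, ← dotProduct_smul, ← Matrix.smul_mulVec, hL, mul_assoc, ← Matrix.mulVec_mulVec,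
        ← Matrix.mulVec_mulVec, Matrix.dotProduct_mulVec x Lᵀ, Matrix.vecMul_transpose]
    rw [e]
    refine Finset.sum_nonneg fun i _ => ?_
    rw [Matrix.mulVec_diagonal, mul_left_comm]
    exact mul_nonneg (hw i) (mul_self_nonneg _)
  have := nonneg_of_mul_nonneg_right h2 hm
  omega

/-- The upper half of a Cartan matrix. -/
def upper {l : ℕ} (A : Matrix (Fin l) (Fin l) ℤ) : Matrix (Fin l) (Fin l) ℤ :=
  Matrix.of fun i j => if i < j then A i j else if i = j then 1 else 0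

theorem factsE6 : CartanFacts cartE6 invE6 3 where
  symA := by decide +kernel
  symB := by decide +kernel
  mulAB := by decide +kernel
  mulBA := by decide +kernel
  quad := quad_of_cert (U := upper cartE6) (m := 60) (w := ![30, 30, 10, 2, 3, 45])
    (L := !![2, 0, -1, 0, 0, 0; 0, 2, 0, -1, 0, 0; 0, 0, 3, -2, 0, 0; 0, 0, 0, 5, -6, 0; 0, 0, 0, 0, 4, -5;
      0, 0, 0, 0, 0, 1]) (by norm_num) (by decide +kernel) (by decide +kernel) (by decide +kernel)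

theorem factsE7 : CartanFacts cartE7 invE7 2 where
  symA := by decide +kernel
  symB := by decide +kernel
  mulAB := by decide +kernel
  mulBA := by decide +kernel
  quad := quad_of_cert (U := upper cartE7) (m := 60) (w := ![30, 30, 10, 2, 3, 5, 40])
    (L := !![2, 0, -1, 0, 0, 0, 0; 0, 2, 0, -1, 0, 0, 0; 0, 0, 3, -2, 0, 0, 0; 0, 0, 0, 5, -6, 0, 0;
      0, 0, 0, 0, 4, -5, 0; 0, 0, 0, 0, 0, 3, -4; 0, 0, 0, 0, 0, 0, 1]) (by norm_num) (by decide +kernel)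
    (by decide +kernel) (by decide +kernel)

theorem detE6 : cartE6.det = 3 := by
  simp [cartE6, Matrix.det_succ_row_zero, Fin.sum_univ_succ, Fin.succAbove]

theorem detE7 : cartE7.det = 2 := by
  simp [cartE7, Matrix.det_succ_row_zero, Fin.sum_univ_succ, Fin.succAbove]

theorem preserveE6 : ∀ i, (reflMat cartE6 i)ᵀ * invE6 * reflMat cartE6 i = invE6 := by decide +kernel

theorem preserveE7 : ∀ i, (reflMat cartE7 i)ᵀ * invE7 * reflMat cartE7 i = invE7 := by decide +kernel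

end Cfsg.Agent.LieTori
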