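import Mathlib.LinearAlgebra.Eigenspace.Zero
import Mathlib.LinearAlgebra.Matrix.Charpoly.Coeff
import Mathlib.RingTheory.Polynomial.Cyclotomic.Roots
import Mathlib.RingTheory.Polynomial.RationalRoot
import Mathlib.FieldTheory.Separable

/-!
Eigenspaces modulo a prime of integer matrices of finite order: their dimension is bounded by the
multiplicity of a cyclotomic factor of the characteristic polynomial (owner: helper35).
-/

set_option autoImplicit false
set_option linter.style.haveILetI false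

namespace Cfsg.Agent.LieTori

open Polynomial Matrix

theorem charpoly_dvd_pow {l N : ℕ} (M : Matrix (Fin l) (Fin l) ℤ) (hM : M ^ N = 1) :
    M.charpoly ∣ (X ^ N - 1) ^ l := by
  have hcomm : Commute (Matrix.scalar (Fin l) (X : ℤ[X])) (C.mapMatrix M) :=
    Matrix.scalar_commute _ (fun _ => Commute.all _ _) _
  have h := hcomm.mul_geom_sum₂ N
  rw [← map_pow (C.mapMatrix), hM, map_one, ← map_pow (Matrix.scalar (Fin l)),
    ← map_one (Matrix.scalar (Fin l)), ← map_sub] at h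
  have h' := congrArg Matrix.det h
  rw [Matrix.det_mul, Matrix.scalar_apply (X ^ N - 1), Matrix.det_diagonal, Finset.prod_const,
    Finset.card_univ, Fintype.card_fin] at h'
  exact Dvd.intro _ h'

/-- An integer matrix of finite order killed by a power of a polynomial is killed by the polynomial. -/
theorem aeval_eq_zero_of_dvd_pow {l N n : ℕ} (hN : N ≠ 0) {M : Matrix (Fin l) (Fin l) ℤ} (hM : M ^ N = 1)
    {f g : ℤ[X]} (hf : aeval M f = 0) (hfg : f ∣ g ^ n) : aeval M g = 0 := by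
  let φ : Matrix (Fin l) (Fin l) ℤ →ₐ[ℤ] Matrix (Fin l) (Fin l) ℚ :=
    (Int.castRingHom ℚ).mapMatrix.toIntAlgHom
  have hinj : Function.Injective φ := Matrix.map_injective Int.cast_injective
  have key : ∀ p : ℤ[X], φ (aeval M p) = aeval (φ M) (p.map (Int.castRingHom ℚ)) := fun p => by
    rw [← aeval_algHom_apply, ← algebraMap_int_eq, aeval_map_algebraMap]
  have h1 : minpoly ℚ (φ M) ∣ (X ^ N - 1 : ℚ[X]) := minpoly.dvd _ _ (by
    rw [map_sub, map_pow, aeval_X, map_one, ← map_pow φ, hM, map_one, sub_self])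
  have hsq : Squarefree (minpoly ℚ (φ M)) :=
    Squarefree.squarefree_of_dvd h1 (Polynomial.Separable.squarefree
      (separable_X_pow_sub_C 1 (Nat.cast_ne_zero.2 hN) one_ne_zero))
  have h2 : minpoly ℚ (φ M) ∣ g.map (Int.castRingHom ℚ) ^ n := by
    rw [← Polynomial.map_pow]
    exact (minpoly.dvd _ _ (by rw [← key, hf, map_zero])).trans (Polynomial.map_dvd _ hfg)
  rcases Nat.eq_zero_or_pos n with rfl | hn
  · have h3 := minpoly.aeval ℚ (φ M)
    rw [pow_zero] at h2
    obtain ⟨c, hc⟩ := h2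
    have h4 : (1 : Matrix (Fin l) (Fin l) ℚ) = 0 := by
      have := congrArg (aeval (φ M)) hc
      rwa [map_one, map_mul, h3, zero_mul] at this
    exact hinj (by rw [map_zero, ← mul_one (φ _), h4, mul_zero])
  · obtain ⟨c, hc⟩ := (hsq.dvd_pow_iff_dvd (y := g.map (Int.castRingHom ℚ)) hn.ne').1 h2
    refine hinj ?_
    rw [map_zero, key, hc, map_mul, minpoly.aeval, zero_mul]

/-- If `M - 1` is a left multiple of `A`, then so is `p(M) - p(1)`. -/
theorem exists_aeval_eq {l : ℕ} {M A N₀ : Matrix (Fin l) (Fin l) ℤ} (h : M = 1 + A * N₀) (p : ℤ[X]) :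
    ∃ N₁, aeval M p = p.eval 1 • (1 : Matrix (Fin l) (Fin l) ℤ) + A * N₁ := by
  obtain ⟨q, hq⟩ := X_sub_C_dvd_sub_C_eval (a := (1 : ℤ)) (p := p)
  refine ⟨N₀ * aeval M q, ?_⟩
  have e := congrArg (aeval M) (eq_add_of_sub_eq' hq)
  rw [map_add, map_mul, map_sub, aeval_X, aeval_C, aeval_C, Algebra.algebraMap_eq_smul_one,
    Algebra.algebraMap_eq_smul_one, one_smul] at e
  rw [e, show M - 1 = A * N₀ by rw [h]; abel, mul_assoc]

theorem false_of_aeval_eq_zero {l : ℕ} {M A N₀ : Matrix (Fin l) (Fin l) ℤ} (h : M = 1 + A * N₀) {p : ℤ[X]}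
    (hp : aeval M p = 0) (hdet : ¬ A.det ∣ p.eval 1 ^ l) : False := by
  obtain ⟨N₁, e⟩ := exists_aeval_eq h p
  rw [hp] at e
  refine hdet ⟨(-N₁).det, ?_⟩
  rw [← Matrix.det_mul, mul_neg, neg_eq_of_add_eq_zero_left e.symm, Matrix.det_smul, Matrix.det_one,
    mul_one, Fintype.card_fin]

/-- The eigenspace modulo `r`. -/
noncomputable def eigMod {l r : ℕ} [Fact r.Prime] (M : Matrix (Fin l) (Fin l) ℤ) (ζ : ZMod r) :
    Submodule (ZMod r) (Fin l → ZMod r) :=
  Module.End.eigenspace (Matrix.toLin' (M.map (Int.cast : ℤ → ZMod r))ᵀ) ζ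

theorem mem_eigMod {l r : ℕ} [Fact r.Prime] (M : Matrix (Fin l) (Fin l) ℤ) (ζ : ZMod r) (x : Fin l → ZMod r) :
    x ∈ eigMod M ζ ↔ ∀ k, ∑ j, (M j k : ZMod r) * x j = ζ * x k := by
  rw [eigMod, Module.End.mem_eigenspace_iff, funext_iff]
  simp [Matrix.mulVec, dotProduct]

theorem finrank_eigMod_le {l r : ℕ} [Fact r.Prime] (M : Matrix (Fin l) (Fin l) ℤ) (ζ : ZMod r) :
    Module.finrank (ZMod r) (eigMod M ζ) ≤
      (M.charpoly.map (Int.castRingHom (ZMod r))).rootMultiplicity ζ := by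
  refine (LinearMap.finrank_eigenspace_le _ _).trans (le_of_eq ?_)
  rw [Matrix.charpoly_toLin', Matrix.charpoly_transpose,
    show M.map (Int.cast : ℤ → ZMod r) = M.map (Int.castRingHom (ZMod r)) from rfl, Matrix.charpoly_map]

theorem cyclotomic_pow_dvd_charpoly {l N r d : ℕ} [Fact r.Prime] {M : Matrix (Fin l) (Fin l) ℤ}
    (hM : M ^ N = 1) (hrN : ¬ r ∣ N) (hd : 0 < d) {ζ : ZMod r} (hζ : orderOf ζ = d) :
    cyclotomic d ℤ ^ Module.finrank (ZMod r) (eigMod M ζ) ∣ M.charpoly := by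
  classical
  have hr : r.Prime := Fact.out
  have hN : 0 < N := Nat.pos_of_ne_zero fun h => hrN (h ▸ dvd_zero r)
  have hprim : IsPrimitiveRoot ζ d := hζ ▸ IsPrimitiveRoot.orderOf ζ
  have hf0 : M.charpoly ≠ 0 := M.charpoly_monic.ne_zero
  have hp : Prime (cyclotomic d ℤ) := (cyclotomic.irreducible hd).prime
  obtain ⟨e, g, hg, hfe⟩ := WfDvdMonoid.max_power_factor' hf0 hp.not_isUnit
  refine (pow_dvd_pow _ ?_).trans (Dvd.intro g hfe.symm)
  refine (finrank_eigMod_le M ζ).trans ?_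
  let φ := Int.castRingHom (ZMod r)
  have hgR : g ∣ ∏ j ∈ N.divisors.erase d, cyclotomic j ℤ ^ l := by
    have h1 : g ∣ cyclotomic d ℤ ^ l * ∏ j ∈ N.divisors.erase d, cyclotomic j ℤ ^ l := by
      refine (dvd_of_mul_left_eq _ hfe.symm).trans ((charpoly_dvd_pow M hM).trans ?_)
      rw [← prod_cyclotomic_eq_X_pow_sub_one hN, ← Finset.prod_pow]
      by_cases hdN : d ∈ N.divisors
      · exact (Finset.mul_prod_erase _ (fun j => cyclotomic j ℤ ^ l) hdN).symm.dvd
      · rw [Finset.erase_eq_of_notMem hdN]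
        exact dvd_mul_left _ _
    exact ((hp.irreducible.isRelPrime_iff_not_dvd.2 hg).pow_left.symm).dvd_of_dvd_mul_left h1
  have hg0 : (g.map φ).rootMultiplicity ζ = 0 := by
    refine rootMultiplicity_eq_zero fun h => ?_
    have h2 := h.dvd (Polynomial.map_dvd φ hgR)
    rw [Polynomial.map_prod, IsRoot, eval_prod, Finset.prod_eq_zero_iff] at h2
    obtain ⟨j, hj, hj0⟩ := h2
    rw [Polynomial.map_pow, eval_pow, map_cyclotomic] at hj0
    obtain ⟨hne, hjd⟩ := Finset.mem_erase.1 hj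
    haveI : NeZero (j : ZMod r) := ⟨fun h => hrN ((ZMod.natCast_eq_zero_iff j r).1 h |>.trans
      (Nat.dvd_of_mem_divisors hjd))⟩
    exact hne (hprim.unique ((isRoot_cyclotomic_iff).1 (eq_zero_of_pow_eq_zero hj0))).symm
  have hne : M.charpoly.map φ ≠ 0 := (M.charpoly_monic.map φ).ne_zero
  rw [hfe, Polynomial.map_mul, Polynomial.map_pow] at hne ⊢
  rw [rootMultiplicity_mul hne, hg0, add_zero, ← count_roots, roots_pow, Multiset.count_nsmul, count_roots]
  refine (Nat.mul_le_mul_left e ?_).trans_eq (mul_one e)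
  rw [map_cyclotomic]
  haveI : NeZero (d : ZMod r) := ⟨fun h => by
    have h1 : d ∣ r - 1 := hζ ▸ ZMod.orderOf_dvd_card_sub_one (fun h0 => by
      rw [h0, orderOf_zero] at hζ; omega)
    have h2 := Nat.le_of_dvd hd ((ZMod.natCast_eq_zero_iff d r).1 h)
    have := Nat.le_of_dvd (Nat.sub_pos_of_lt hr.one_lt) h1
    omega⟩
  exact rootMultiplicity_le_one_of_separable (PerfectField.separable_iff_squarefree.2 (squarefree_cyclotomic d (ZMod r))) ζ

theorem mul_totient_le {l N r d : ℕ} [Fact r.Prime] {M : Matrix (Fin l) (Fin l) ℤ}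
    (hM : M ^ N = 1) (hrN : ¬ r ∣ N) (hd : 0 < d) {ζ : ZMod r} (hζ : orderOf ζ = d) :
    Module.finrank (ZMod r) (eigMod M ζ) * d.totient ≤ l := by
  have h := Polynomial.natDegree_le_of_dvd (cyclotomic_pow_dvd_charpoly hM hrN hd hζ)
    M.charpoly_monic.ne_zero
  rwa [natDegree_pow, natDegree_cyclotomic, M.charpoly_natDegree_eq_dim, Fintype.card_fin] at h

end Cfsg.Agent.LieTori
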