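import Cfsg.Agent.LieTori.RootMatrix
import Cfsg.Agent.LieTori.CycBound
import Cfsg.Agent.ChevGrp.Bruhat

/-!
An element carrying the elements of a small torus to their `q`-th powers does so by a Weyl group element
(owner: helper35).
-/

set_option autoImplicit false

namespace Cfsg.Agent.LieTori

open Cfsg.Lie Cfsg.Agent.ChevGrp Matrix

theorem prod_zpow_hom {l m : ℕ} {U : Type*} [CommGroup U] (f : Multiplicative (ZMod m) →* U) (C : Fin l → ℤ)
    (y : Fin l → Multiplicative (ZMod m)) :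
    ∏ j, f (y j) ^ C j = f (Multiplicative.ofAdd (∑ j, (C j : ZMod m) * Multiplicative.toAdd (y j))) := by
  rw [ofAdd_sum, map_prod]
  refine Finset.prod_congr rfl fun j _ => ?_
  rw [← zsmul_eq_mul, ofAdd_zsmul, ofAdd_toAdd, map_zpow]

variable {D : ChevalleyDatum} {F : Type*} [Field F] {G : Type*} [Group G] (S : Sys D F G) {len : ℕ → ℕ}

theorem conj_nW_eq (hS : Rules D F) (hR : RootTable D len) (hM : S.HMul) {b v t t' : G} {w : List (Fin D.rank)}
    (hb : b ∈ S.Bbar) (hv : v ∈ S.US (invSet D w)) (ht : t ∈ S.Hbar) (ht' : t' ∈ S.Hbar)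
    (e : b * S.nW w * v * t = t' * (b * S.nW w * v)) : S.nW w * t * (S.nW w)⁻¹ = t' := by
  have hv' : t⁻¹ * v * t ∈ S.US (invSet D w) := by
    have := (Subgroup.mem_normalizer_iff.1 (S.Hbar_le_normalizer_US hS hR (fun _ h => h.1.1) (inv_mem ht)) v).1 hv
    simpa using this
  have hn : S.nW w * t * (S.nW w)⁻¹ ∈ S.Hbar := S.nW_conj_Hbar hS hR w ht
  have e' : b * (S.nW w * t * (S.nW w)⁻¹) * S.nW w * (t⁻¹ * v * t) = t' * b * S.nW w * v := by
    rw [mul_assoc t' b, mul_assoc t', ← e]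
    group
  have h1 := ((S.bruhat_unique hS hR (mul_mem hb (S.Hbar_le_Bbar hn)) (mul_mem (S.Hbar_le_Bbar ht') hb)
    hv' hv e').2 rfl).1
  obtain ⟨u, hu, h, hh, rfl⟩ := (S.mem_Bbar hS hR).1 hb
  have hu' : t' * u * t'⁻¹ ∈ S.Ubar :=
    (Subgroup.mem_normalizer_iff.1 (S.Hbar_le_normalizer_Ubar hS hR ht') u).1 hu
  obtain ⟨-, h2⟩ := S.Bbar_decomp_unique hS hR hu hu' (mul_mem hh hn) (mul_mem ht' hh)
    (h := h * (S.nW w * t * (S.nW w)⁻¹)) (h' := t' * h) (by rw [← mul_assoc, h1]; group)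
  rw [S.Hbar_comm hS hR hM _ ht' _ hh] at h2
  exact mul_left_cancel h2

theorem root_eq_of_conj (hS : Rules D F) (hR : RootTable D len) (hM : S.HMul) {w : List (Fin D.rank)}
    {c c' : Fin D.rank → Fˣ} (e : S.nW w * S.tau hS hR hM c * (S.nW w)⁻¹ = S.tau hS hR hM c')
    {s : ℕ} (hs : s < D.nroots) :
    ∏ j : Fin D.rank, c j ^ D.cartan j s = ∏ j : Fin D.rank, c' j ^ D.cartan j (act D w s) := by
  classical
  obtain ⟨k, hk, ek⟩ := S.mat_nW hS hR w
  have e' := congrArg S.mat (mul_inv_eq_iff_eq_mul.1 e)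
  rw [S.mat_mul, S.mat_mul, S.mat_tau hS hR hM, S.mat_tau hS hR hM] at e'
  have h := congrFun (congrFun e' (Sum.inr ⟨act D w s, hR.act_lt w hs⟩)) (Sum.inr ⟨s, hs⟩)
  rw [Matrix.mul_diagonal, Matrix.diagonal_mul, ek, if_pos rfl, mul_comm] at h
  exact Units.ext (mul_right_cancel₀ (hk ⟨s, hs⟩) h)

theorem eigen_of_conj_nW (hS : Rules D F) (hR : RootTable D len) (hM : S.HMul) {r : ℕ} [Fact r.Prime]
    (hdet : ((cartanMat D).det : ZMod r) ≠ 0) (g : Multiplicative (ZMod r) →* Fˣ) (hg : Function.Injective g)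
    {q : ℕ} (hq : (q : ZMod r) ≠ 0) {w : List (Fin D.rank)} {x : Fin D.rank → ZMod r}
    (e : S.nW w * S.tau hS hR hM (fun j => g (Multiplicative.ofAdd (x j))) * (S.nW w)⁻¹ =
      S.tau hS hR hM (fun j => g (Multiplicative.ofAdd (x j))) ^ q) :
    x ∈ eigMod (wMat (cartanMat D) w) (q : ZMod r)⁻¹ := by
  set c : Fin D.rank → Fˣ := fun j => g (Multiplicative.ofAdd (x j)) with hc
  rw [← map_pow] at e
  set M := wMat (cartanMat D) w with hMdef
  have key : ∀ k : Fin D.rank, ∑ j, ((cartanMat D j k : ℤ) : ZMod r) * x j =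
      (q : ZMod r) * ∑ j, (((M * cartanMat D) j k : ℤ) : ZMod r) * x j := fun k => by
    have h1 := root_eq_of_conj S hS hR hM e (hR.simple_lt k k.2)
    have hcol : ∀ j : Fin D.rank, D.cartan j (act D w (D.simple k)) = (M * cartanMat D) j k := fun j => by
      have := congrFun (col_act hR w (hR.simple_lt k k.2)) j
      simpa [col, hMdef, cartanMat, Matrix.mul_apply, Matrix.mulVec, dotProduct] using this
    have hpow : (c ^ q) = fun j => g (Multiplicative.ofAdd ((q : ZMod r) * x j)) := funext fun j => by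
      rw [Pi.pow_apply, hc, ← map_pow, ← ofAdd_nsmul, nsmul_eq_mul]
    rw [hpow] at h1
    simp only [hcol, hc, prod_zpow_hom, toAdd_ofAdd] at h1
    have h2 := Multiplicative.ofAdd.injective (hg h1)
    rw [Finset.mul_sum]
    exact h2.trans (Finset.sum_congr rfl fun j _ => by ring)
  let A : Matrix (Fin D.rank) (Fin D.rank) (ZMod r) := (cartanMat D).map (Int.castRingHom (ZMod r))
  let M' : Matrix (Fin D.rank) (Fin D.rank) (ZMod r) := M.map (Int.castRingHom (ZMod r))
  have hA : A.det ≠ 0 := by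
    rwa [show A.det = ((cartanMat D).det : ZMod r) from (RingHom.map_det (Int.castRingHom (ZMod r)) _).symm]
  have hy : (x - (q : ZMod r) • (x ᵥ* M')) ᵥ* A = 0 := by
    funext k
    rw [Matrix.sub_vecMul, Matrix.smul_vecMul, Matrix.vecMul_vecMul, Pi.sub_apply, Pi.smul_apply, Pi.zero_apply,
      sub_eq_zero, smul_eq_mul, show M' * A = (M * cartanMat D).map (Int.castRingHom (ZMod r)) from
        (Matrix.map_mul (f := Int.castRingHom (ZMod r))).symm]
    simpa [Matrix.vecMul, dotProduct, A, mul_comm] using key k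
  have hx := sub_eq_zero.1 (Matrix.eq_zero_of_vecMul_eq_zero hA hy)
  rw [mem_eigMod]
  intro k
  have h3 := congrFun hx k
  simp only [Pi.smul_apply, smul_eq_mul, Matrix.vecMul, dotProduct, M', Matrix.map_apply,
    eq_intCast] at h3
  rw [h3, ← mul_assoc, inv_mul_cancel₀ hq, one_mul]
  exact Finset.sum_congr rfl fun j _ => mul_comm _ _

/-- Elements of a small torus carried to their `q`-th powers lie in one eigenspace. -/
theorem exists_eigen (hS : Rules D F) (hR : RootTable D len) (hM : S.HMul) {r : ℕ} [Fact r.Prime]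
    (hdet : ((cartanMat D).det : ZMod r) ≠ 0) (g : Multiplicative (ZMod r) →* Fˣ) (hg : Function.Injective g)
    {q : ℕ} (hq : (q : ZMod r) ≠ 0) {h : G} (hh : h ∈ S.Gbar) :
    ∃ w : List (Fin D.rank), ∀ x : Fin D.rank → ZMod r,
      h * S.tau hS hR hM (fun j => g (Multiplicative.ofAdd (x j))) * h⁻¹ =
          S.tau hS hR hM (fun j => g (Multiplicative.ofAdd (x j))) ^ q →
        x ∈ eigMod (wMat (cartanMat D) w) (q : ZMod r)⁻¹ := by
  obtain ⟨b, hb, w, -, v, hv, rfl⟩ := S.mem_NF hS hR hh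
  refine ⟨w, fun x e => ?_⟩
  refine eigen_of_conj_nW S hS hR hM hdet g hg hq ?_
  have hmem : ∀ c : Fin D.rank → Fˣ, S.tau hS hR hM c ∈ S.Hbar := fun c => by
    rw [← S.tau_range hS hR hM]; exact ⟨c, rfl⟩
  rw [mul_inv_eq_iff_eq_mul] at e
  exact conj_nW_eq S hS hR hM hb hv (hmem _) (pow_mem (hmem _) q) e

end Cfsg.Agent.LieTori
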