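import Cfsg.Agent.LieTori.Homocyclic
import Cfsg.Agent.LieTori.RankBound
import Cfsg.Agent.LieTori.TorusEigen
import Cfsg.Agent.SylowLarge.Linear
import Cfsg.Agent.ChevGrp.FieldAut
import Mathlib.FieldTheory.Finite.Extension

/-!
Sylow subgroups of Chevalley groups for primes not dividing the order of the Weyl group (owner: helper35).

Over the field with `q ^ d` elements the split torus contains a Sylow subgroup, so a Sylow subgroup `P` over
`F` is abelian of exponent dividing `m`; the Frobenius map shows that its elements of order `r` correspond to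
an eigenspace of a Weyl group element, which bounds its rank.
-/

set_option autoImplicit false
set_option linter.style.haveILetI false

namespace Cfsg.Agent.LieTori

open Cfsg.Lie Cfsg.Agent.ChevGrp Matrix Polynomial
open scoped MatrixGroups

/-- The order formula: up to a divisor of `δ`, `|G| = Q ^ N * ∏ (Q ^ e - 1)`. -/
def OrderFormula (D : ChevalleyDatum) (L : List ℕ) (δ : ℕ) (F : Type*) [Field F] : Prop :=
  ∃ c N : ℕ, c ∣ δ ∧ c * Nat.card ↥(D.group F) = Nat.card F ^ N * (L.map fun e => Nat.card F ^ e - 1).prod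

theorem padicValNat_group {D : ChevalleyDatum} {L : List ℕ} {δ r : ℕ} {F : Type*} [Field F] [Finite F]
    [Fact r.Prime] (h : OrderFormula D L δ F) (hr2 : r ≠ 2) (hrQ : ¬ r ∣ Nat.card F) (hrδ : ¬ r ∣ δ)
    (hL : ∀ e ∈ L, ¬ r ∣ e) :
    padicValNat r (Nat.card ↥(D.group F)) =
      (L.filter fun e => orderOf (Nat.card F : ZMod r) ∣ e).length *
        padicValNat r ((cyclotomic (orderOf (Nat.card F : ZMod r)) ℤ).eval (Nat.card F : ℤ)).natAbs := by
  obtain ⟨c, N, hc, h⟩ := h
  have hrc : ¬ r ∣ c := fun hd => hrδ (hd.trans hc)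
  have hQ : 1 < Nat.card F := Finite.one_lt_card
  have hne : (L.map fun e => Nat.card F ^ e - 1).prod ≠ 0 := by
    refine List.prod_ne_zero fun h0 => ?_
    obtain ⟨e, he, he0⟩ := List.mem_map.1 h0
    exact Nat.sub_ne_zero_of_lt (Nat.one_lt_pow (fun h => hL e he (by rw [h]; exact dvd_zero r)) hQ) he0
  have h' := congrArg (padicValNat r) h
  rw [padicValNat.mul (fun h0 => hrc (by rw [h0]; exact dvd_zero r)) Nat.card_pos.ne',
    padicValNat.mul (pow_ne_zero _ (by omega)) hne, padicValNat.eq_zero_of_not_dvd hrc,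
    padicValNat.eq_zero_of_not_dvd (SylowLarge.not_dvd_pow hrQ _), zero_add, zero_add,
    padicValNat_list_prod hr2 hQ hrQ L hL] at h'
  exact h'

theorem tau_torus_injective {D : ChevalleyDatum} {K : Type*} [Field K] {len : ℕ → ℕ} (hS : Rules D K)
    (hR : RootTable D len) {r v δ : ℕ} [Fact r.Prime] (hdet : (cartanMat D).det = (δ : ℤ)) (hrδ : ¬ r ∣ δ)
    {f : Multiplicative (ZMod (r ^ v)) →* Kˣ} (hf : Function.Injective f) :
    Function.Injective (((glSys hS).tau hS hR (glSys_HMul hS hR)).comp (f.compLeft (Fin D.rank))) := by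
  rw [injective_iff_map_eq_one]
  intro y hy
  have hy' : (fun j => f (y j)) ∈ rootKer D K :=
    ((glSys hS).θ_tau_eq_one_iff hS hR (glSys_HMul hS hR) _).1 hy
  let A : Matrix (Fin D.rank) (Fin D.rank) (ZMod (r ^ v)) := (cartanMat D).map (Int.castRingHom _)
  have hA : IsUnit A.det := by
    rw [show A.det = (((cartanMat D).det : ℤ) : ZMod (r ^ v)) from
      (RingHom.map_det (Int.castRingHom (ZMod (r ^ v))) _).symm, hdet, Int.cast_natCast]
    exact ⟨ZMod.unitOfCoprime δ ((((Fact.out : r.Prime).coprime_iff_not_dvd.2 hrδ).pow_left v).symm), rfl⟩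
  have h0 : (fun j => Multiplicative.toAdd (y j)) ᵥ* A = 0 := by
    funext k
    have h := hy' k
    rw [prod_zpow_hom, ← map_one f] at h
    simpa [Matrix.vecMul, dotProduct, A, cartanMat, mul_comm] using congrArg Multiplicative.toAdd (hf h)
  have h1 := congrArg (· ᵥ* A⁻¹) h0
  simp only [Matrix.vecMul_vecMul, Matrix.mul_nonsing_inv A hA, Matrix.vecMul_one, Matrix.zero_vecMul] at h1
  exact funext fun j => toAdd_eq_zero.1 (congrFun h1 j)

/-- A power map of the coefficient field fixes the image of the small field and raises the torus to a power. -/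
theorem map_tau {D : ChevalleyDatum} {K : Type*} [Field K] {len : ℕ → ℕ} (hS : Rules D K) (hR : RootTable D len)
    (σ : K →+* K) {q : ℕ} (hσ : ∀ x, σ x = x ^ q) (c : Fin D.rank → Kˣ) :
    Matrix.GeneralLinearGroup.map (n := D.Idx) σ ((glSys hS).tau hS hR (glSys_HMul hS hR) c) =
      (glSys hS).tau hS hR (glSys_HMul hS hR) c ^ q := by
  classical
  rw [← map_pow]
  refine Units.ext ?_
  show ((glSys hS).mat ((glSys hS).tau hS hR (glSys_HMul hS hR) c)).map σ =
    (glSys hS).mat ((glSys hS).tau hS hR (glSys_HMul hS hR) (c ^ q))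
  rw [(glSys hS).mat_tau hS hR, (glSys hS).mat_tau hS hR, Matrix.diagonal_map (map_zero σ)]
  congr 1
  funext a
  rcases a with a | a
  · simp
  · simp only [Sum.elim_inr, hσ]
    rw [← Units.val_pow_eq_pow_val, ← Finset.prod_pow]
    congr 1
    refine Finset.prod_congr rfl fun j _ => ?_
    rw [Pi.pow_apply, ← zpow_natCast, ← zpow_natCast, ← _root_.zpow_mul, ← _root_.zpow_mul, mul_comm]

universe u

theorem sylow_homocyclic {D : ChevalleyDatum} {L : List ℕ} {δ : ℕ}
    (hD : D ∈ [chevG2, chevB2, chevD4, chevF4, chevE6, chevE7, chevE8]) (hLlen : L.length = D.rank)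
    (heven : 2 ∣ L.prod) (hdet : (cartanMat D).det = (δ : ℤ)) (hδ : δ ∣ L.prod) (hbound : RankBound D L)
    {F : Type u} [Field F] [Fintype F] {q : ℕ} (hq : Fintype.card F = q) (hF : OrderFormula D L δ F)
    (hK : ∀ (K : Type) [Field K] [Fintype K], OrderFormula D L δ K)
    (r : ℕ) [Fact r.Prime] (hrq : ¬ r ∣ q) (hrW : ¬ r ∣ L.prod) (hrG : r ∣ Nat.card ↥(D.group F))
    (P : Sylow r ↥(D.group F)) :
    Nonempty (↥(P : Subgroup ↥(D.group F)) ≃*
      (Fin (L.filter fun e => orderOf (q : ZMod r) ∣ e).length →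
        Multiplicative (ZMod (r ^ padicValNat r ((cyclotomic (orderOf (q : ZMod r)) ℤ).eval (q : ℤ)).natAbs)))) := by
  classical
  have hr : r.Prime := Fact.out
  have hr2 : r ≠ 2 := by rintro rfl; exact hrW heven
  have hrδ : ¬ r ∣ δ := fun h => hrW (h.trans hδ)
  have hLr : ∀ e ∈ L, ¬ r ∣ e := fun e he h => hrW (h.trans (List.dvd_prod he))
  have hq1 : 1 < q := hq ▸ Fintype.one_lt_card
  have hcardF : Nat.card F = q := by rw [Nat.card_eq_fintype_card, hq]
  set d := orderOf (q : ZMod r) with hd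
  set a := (L.filter fun e => d ∣ e).length with ha
  set v := padicValNat r ((cyclotomic d ℤ).eval (q : ℤ)).natAbs with hv
  have hvF : padicValNat r (Nat.card ↥(D.group F)) = a * v := by
    rw [padicValNat_group hF hr2 (hcardF ▸ hrq) hrδ hLr, hcardF]
  have hav : a * v ≠ 0 := by
    rw [← hvF]
    exact (one_le_padicValNat_of_dvd Nat.card_pos.ne' hrG).trans_lt' one_pos |>.ne'
  obtain ⟨ha0, hv0⟩ := mul_ne_zero_iff.1 hav
  have hd0 : 0 < d := Arith.orderOf_natCast_pos hrq
  haveI : NeZero d := ⟨hd0.ne'⟩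
  obtain ⟨p, hp⟩ := CharP.exists F
  haveI := Fact.mk (CharP.char_is_prime F p)
  let K := FiniteField.Extension F p d
  haveI : Fintype K := Fintype.ofFinite K
  have hcardK : Nat.card K = q ^ d := by rw [FiniteField.natCard_extension, hcardF]
  have hone : (Nat.card K : ZMod r) = 1 := by rw [hcardK, Nat.cast_pow, hd, pow_orderOf_eq_one]
  have hvd : padicValNat r (q ^ d - 1) = v := by
    rw [hv, hd, Arith.padicValNat_cyclotomic_orderOf hq1 hrq]
  have hrQ : ¬ r ∣ Nat.card K := hcardK ▸ SylowLarge.not_dvd_pow hrq d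
  have hvK : padicValNat r (Nat.card ↥(D.group K)) = D.rank * v := by
    rw [padicValNat_group (hK K) hr2 hrQ hrδ hLr, hone, orderOf_one, cyclotomic_one, ← hLlen]
    simp only [one_dvd, decide_true, List.filter_true, eval_sub, eval_X, eval_one, hcardK]
    rw [show ((q ^ d : ℕ) : ℤ) - 1 = ((q ^ d - 1 : ℕ) : ℤ) by
      rw [Nat.cast_sub (Nat.one_le_pow _ _ (by omega))]; rfl, Int.natAbs_natCast, hvd]
  -- the split torus over `K`
  have hS : Rules D K := Chev.rules_of_mem K hD
  obtain ⟨len, hR⟩ := hS.root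
  let S := glSys hS
  have hM : S.HMul := glSys_HMul hS hR
  have hm : r ^ v ∣ Nat.card K - 1 := by rw [hcardK, ← hvd]; exact pow_padicValNat_dvd
  obtain ⟨f, hf⟩ := SylowLarge.exists_zmod_hom_units hm
  obtain ⟨g, hg⟩ := SylowLarge.exists_zmod_hom_units (K := K) ((dvd_pow_self r hv0).trans hm)
  have hGK : D.group K = S.Gbar := group_eq hS
  have htau : ∀ c, S.tau hS hR hM c ∈ D.group K := fun c => by
    have hN : S.tau hS hR hM c ∈ S.Hbar := by rw [← S.tau_range hS hR hM]; exact ⟨c, rfl⟩
    rw [hGK, S.Gbar_eq hR hS]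
    exact Subgroup.mem_sup_left (S.Hbar_le_Bbar hN)
  let φ : (Fin D.rank → Multiplicative (ZMod (r ^ v))) →* ↥(D.group K) :=
    ((S.tau hS hR hM).comp (f.compLeft (Fin D.rank))).codRestrict _ fun y => htau (f.compLeft (Fin D.rank) y)
  have hφ : Function.Injective φ := fun x y e =>
    tau_torus_injective hS hR hdet hrδ hf (congrArg Subtype.val e)
  have hφcard : Nat.card φ.range = r ^ (Nat.card ↥(D.group K)).factorization r := by
    rw [← Nat.card_congr (MonoidHom.ofInjective hφ).toEquiv, SylowLarge.card_pi_zmod,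
      Nat.factorization_def _ hr, hvK]
  -- conjugate the image of `P` into it
  let e : GL D.Idx F →* GL D.Idx K := Matrix.GeneralLinearGroup.map (algebraMap F K)
  let ψ : ↥(D.group F) →* ↥(D.group K) :=
    (e.comp (D.group F).subtype).codRestrict _ fun x => map_group_le D (algebraMap F K) ⟨x.1, x.2, rfl⟩
  have hψ : Function.Injective ψ := fun x y h =>
    Subtype.ext (glMap_injective D (algebraMap F K) (congrArg Subtype.val h))
  obtain ⟨Q, hQ⟩ := (P.2.map ψ).exists_le_sylow
  obtain ⟨γ, hγ⟩ := MulAction.exists_smul_eq ↥(D.group K) Q (Sylow.ofCard φ.range hφcard)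
  let ι : ↥(P : Subgroup ↥(D.group F)) →* ↥(D.group K) :=
    (MulAut.conj γ).toMonoidHom.comp (ψ.comp (P : Subgroup ↥(D.group F)).subtype)
  have hι : Function.Injective ι :=
    (MulAut.conj γ).injective.comp (hψ.comp (Subgroup.subtype_injective _))
  have hιmem : ∀ x, ι x ∈ φ.range := fun x => by
    have h1 : MulAut.conj γ (ψ x.1) ∈ ((γ • Q : Sylow r ↥(D.group K)) : Subgroup ↥(D.group K)) := by
      rw [Sylow.smul_def, Sylow.pointwise_smul_def, ← MulAut.smul_def]
      exact Subgroup.smul_mem_pointwise_smul _ _ _ (hQ ⟨x.1, x.2, rfl⟩)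
    rw [hγ] at h1
    exact h1
  let χ : ↥(P : Subgroup ↥(D.group F)) →* (Fin D.rank → Multiplicative (ZMod (r ^ v))) :=
    (MonoidHom.ofInjective hφ).symm.toMonoidHom.comp (ι.codRestrict φ.range hιmem)
  have hχ : ∀ x, φ (χ x) = ι x := fun x =>
    congrArg Subtype.val ((MonoidHom.ofInjective hφ).apply_symm_apply ⟨ι x, hιmem x⟩)
  have hχinj : Function.Injective χ := fun x y h => hι (by rw [← hχ, ← hχ, h])
  letI : CommGroup ↥(P : Subgroup ↥(D.group F)) :=
    { (inferInstance : Group ↥(P : Subgroup ↥(D.group F))) with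
      mul_comm := fun x y => hχinj (by rw [map_mul, map_mul, mul_comm]) }
  have hexp : ∀ x : ↥(P : Subgroup ↥(D.group F)), x ^ r ^ v = 1 := fun x => hχinj (funext fun j => by
    rw [map_pow, map_one, Pi.pow_apply, Pi.one_apply]
    exact Multiplicative.toAdd.injective (by simp))
  have hcard : Nat.card ↥(P : Subgroup ↥(D.group F)) = r ^ (v * a) := by
    rw [P.card_eq_multiplicity, Nat.factorization_def _ hr, hvF, mul_comm]
  -- the rank
  have htor : Nat.card (powMonoidHom r : ↥(P : Subgroup ↥(D.group F)) →* _).ker ≤ r ^ a := by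
    let σ : K →+* K := (FiniteField.Extension.frob F p d).toAlgHom.toRingHom
    have hσ : ∀ x : K, σ x = x ^ q := fun x => by
      show FiniteField.Extension.frob F p d x = _
      rw [FiniteField.Extension.frob_apply, hcardF]
    let fr : GL D.Idx K →* GL D.Idx K := Matrix.GeneralLinearGroup.map σ
    have hfix : ∀ x : GL D.Idx F, fr (e x) = e x := fun x => by
      ext i j
      exact (FiniteField.Extension.frob F p d).commutes _
    have hdr : ((cartanMat D).det : ZMod r) ≠ 0 := by
      rw [hdet, Int.cast_natCast, Ne, ZMod.natCast_eq_zero_iff]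
      exact hrδ
    have hq0 : (q : ZMod r) ≠ 0 := by
      rwa [Ne, ZMod.natCast_eq_zero_iff]
    let h : GL D.Idx K := fr (γ : GL D.Idx K) * (γ : GL D.Idx K)⁻¹
    have hh : h ∈ S.Gbar := by
      rw [← hGK]
      exact mul_mem (map_group_le D σ ⟨_, γ.2, rfl⟩) (inv_mem γ.2)
    obtain ⟨w, hw⟩ := exists_eigen S hS hR hM hdr g hg hq0 hh
    have hroot : ∀ u : Kˣ, u ^ r = 1 → ∃ z, g z = u := fun u hu => by
      have h2 : g.range = (powMonoidHom r : Kˣ →* Kˣ).ker := by
        refine Subgroup.eq_of_le_of_card_ge ?_ (le_of_eq ?_)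
        · rintro _ ⟨z, rfl⟩
          rw [MonoidHom.mem_ker, powMonoidHom_apply, ← map_pow, ← map_one g]
          congr 1
          exact Multiplicative.toAdd.injective (by simp)
        · rw [IsCyclic.card_powMonoidHom_ker, Nat.card_units,
            Nat.gcd_eq_right ((dvd_pow_self r hv0).trans hm), ← Nat.card_congr (MonoidHom.ofInjective hg).toEquiv,
            Nat.card_congr Multiplicative.toAdd, Nat.card_zmod]
      exact MonoidHom.mem_range.1 (h2.ge (MonoidHom.mem_ker.2 hu))
    choose z hz using hroot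
    have hfr : ∀ (x : (powMonoidHom r : ↥(P : Subgroup ↥(D.group F)) →* _).ker) (j : Fin D.rank),
        f (χ x.1 j) ^ r = 1 := fun x j => by
      rw [← map_pow, ← Pi.pow_apply, ← map_pow, show x.1 ^ r = 1 from MonoidHom.mem_ker.1 x.2, map_one,
        Pi.one_apply, map_one]
    let vec : (powMonoidHom r : ↥(P : Subgroup ↥(D.group F)) →* _).ker → Fin D.rank → ZMod r := fun x j =>
      Multiplicative.toAdd (z (f (χ x.1 j)) (hfr x j))
    have hT : ∀ x, S.tau hS hR hM (fun j => g (Multiplicative.ofAdd (vec x j))) = ((ι x.1 : ↥(D.group K)) : GL D.Idx K) := by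
      intro x
      rw [← hχ]
      show _ = S.tau hS hR hM (fun j => f (χ x.1 j))
      congr 1
      funext j
      simp only [vec, ofAdd_toAdd, hz]
    have hmem : ∀ x, vec x ∈ eigMod (wMat (cartanMat D) w) (q : ZMod r)⁻¹ := fun x => by
      refine hw _ ?_
      rw [hT]
      have h1 : ((ι x.1 : ↥(D.group K)) : GL D.Idx K) =
          (γ : GL D.Idx K) * e ((x.1.1 : ↥(D.group F)) : GL D.Idx F) * (γ : GL D.Idx K)⁻¹ := rfl
      have h2 : fr ((ι x.1 : ↥(D.group K)) : GL D.Idx K) = ((ι x.1 : ↥(D.group K)) : GL D.Idx K) ^ q := by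
        rw [← hT]
        exact map_tau hS hR σ hσ _
      rw [← h2, h1, map_mul, map_mul, map_inv, hfix]
      simp only [h]
      group
    let emb : (powMonoidHom r : ↥(P : Subgroup ↥(D.group F)) →* _).ker →
        eigMod (wMat (cartanMat D) w) (q : ZMod r)⁻¹ := fun x => ⟨vec x, hmem x⟩
    have hemb : Function.Injective emb := fun x y hxy => by
      refine Subtype.ext (hι (Subtype.ext ?_))
      rw [← hT, ← hT, show vec x = vec y from congrArg Subtype.val hxy]
    refine (Nat.card_le_card_of_injective emb hemb).trans ?_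
    rw [Module.natCard_eq_pow_finrank (K := ZMod r), Nat.card_zmod]
    refine Nat.pow_le_pow_right hr.pos ?_
    have hζ : orderOf (q : ZMod r)⁻¹ = d := by
      rw [hd, orderOf_eq_orderOf_iff]
      intro n
      rw [inv_pow, inv_eq_one]
    have hex : ∃ x ∈ L, orderOf (q : ZMod r)⁻¹ ∣ x := by
      obtain ⟨x, hx⟩ := List.exists_mem_of_length_pos (Nat.pos_of_ne_zero ha0)
      rw [List.mem_filter] at hx
      exact ⟨x, hx.1, hζ ▸ by simpa using hx.2⟩
    have := hbound w r hrW _ (inv_ne_zero hq0) hex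
    simpa [hζ, ha] using this
  exact exists_equiv_pi_zmod hexp hcard htor

end Cfsg.Agent.LieTori
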