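import Cfsg.Agent.LieTori.RegularTorusUniv

/-!
A twisted frame in the universal group: an element `γ` with `Frob(γ) γ⁻¹` in `N`, found from a regular element of
prime order (owner: helper35).
-/

set_option autoImplicit false
set_option linter.style.haveILetI false

namespace Cfsg.Agent.LieTori

open Cfsg.Lie Cfsg.Agent.ChevGrp Matrix Polynomial
open scoped MatrixGroups

universe u

theorem exists_frame {D : ChevalleyDatum} {L : List ℕ} {δ d : ℕ}
    (hdet : (cartanMat D).det = (δ : ℤ))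
    (heven : 2 ∣ L.prod) (hd : 2 < d)
    (hLd : ∃ e ∈ L, d ∣ e) (hW' : ∀ r : ℕ, r.Prime → r ∣ L.prod → r ≤ d)
    {F : Type u} [Field F] [Fintype F] {q : ℕ} (hq : Fintype.card F = q) (hF : OrderFormula D L δ F)
    (K : Type) [Field K] [Fintype K] (hK : OrderFormula D L δ K) (hLlen : L.length = D.rank)
    (hδ : δ ∣ L.prod) (hz : ¬ (q = 2 ∧ d = 6))
    (j : F →+* K) (σ : K →+* K) (hσ : ∀ a : K, σ a = a ^ q) (hcardK : Nat.card K = q ^ d)
    (hS : Rules D K) {len : ℕ → ℕ} (hR : RootTable D len)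
    (hinjT : Function.Injective ((stSys hS).tau hS hR (stSys_HMul hS hR)))
    (hspec : ∀ (r : ℕ) [Fact r.Prime], ¬ r ∣ L.prod → ∀ ζ : ZMod r, orderOf ζ = d →
      ∀ (w : List (Fin D.rank)) (v : Fin D.rank → ZMod r), v ∈ eigMod (wMat (cartanMat D) w) ζ → v ≠ 0 →
        (∀ s < D.nroots, pairMod v (col D s) ≠ 0) ∧
        (∀ u : List (Fin D.rank), v ∈ eigMod (wMat (cartanMat D) u) 1 → wMat (cartanMat D) u = 1)) :
    ∃ (r : ℕ) (_ : Fact r.Prime) (γu : D.SteinbergGroup K) (w : List (Fin D.rank)) (c₁ : Fin D.rank → Kˣ)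
      (vr : Fin D.rank → ZMod r), ¬ r ∣ L.prod ∧ orderOf (q : ZMod r) = d ∧ vr ≠ 0 ∧
        vr ∈ eigMod (wMat (cartanMat D) w) (q : ZMod r)⁻¹ ∧
        stFr hS σ γu = (stSys hS).nW w * (stSys hS).tau hS hR (stSys_HMul hS hR) c₁ * γu := by
  classical
  have hq1 : 1 < q := hq ▸ Fintype.one_lt_card
  have hcardF : Nat.card F = q := by rw [Nat.card_eq_fintype_card, hq]
  obtain ⟨r, hr, hord⟩ := Arith.exists_prime_orderOf_eq hq1 (show 1 < d by omega) hz (fun h => by omega)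
  haveI := Fact.mk hr
  have hdr : d < r := Arith.lt_of_orderOf_eq (by omega) hord
  have hrW : ¬ r ∣ L.prod := fun h => by have := hW' r hr h; omega
  have hr2 : r ≠ 2 := by rintro rfl; exact hrW heven
  have hrδ : ¬ r ∣ δ := fun h => hrW (h.trans hδ)
  have hLr : ∀ e ∈ L, ¬ r ∣ e := fun e he h => hrW (h.trans (List.dvd_prod he))
  have hrq : ¬ r ∣ q := fun h => by
    have := Arith.orderOf_natCast_eq_zero_of_dvd h
    omega
  have hrG : r ∣ Nat.card ↥(D.group F) := by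
    refine dvd_of_one_le_padicValNat ?_
    rw [padicValNat_group hF hr2 (hcardF ▸ hrq) hrδ hLr, hcardF, Arith.padicValNat_cyclotomic_orderOf hq1 hrq, hord]
    refine Nat.mul_pos ?_ (one_le_padicValNat_of_dvd ?_ ?_)
    · obtain ⟨e, he, hde⟩ := hLd
      exact List.length_pos_of_mem (List.mem_filter.2 ⟨he, by simpa using hde⟩)
    · exact Nat.sub_ne_zero_of_lt (Nat.one_lt_pow (by omega) hq1)
    · exact (Arith.dvd_pow_sub_one_iff_orderOf_dvd (by omega) d).2 (hord ▸ dvd_rfl)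
  obtain ⟨x, hx⟩ := exists_prime_orderOf_dvd_card' r hrG
  set m := q ^ d - 1 with hmdef
  have hm0 : m ≠ 0 := Nat.sub_ne_zero_of_lt (Nat.one_lt_pow (by omega) hq1)
  haveI : NeZero m := ⟨hm0⟩
  let S := glSys hS
  have hM : S.HMul := glSys_HMul hS hR
  let A := cartanMat D
  have hA0 : A.det ≠ 0 := by
    rw [hdet, Int.natCast_ne_zero]
    rintro rfl
    exact hrδ (dvd_zero r)
  let e : GL D.Idx F →* GL D.Idx K := Matrix.GeneralLinearGroup.map j
  have he : Function.Injective e := glMap_injective D j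
  have heG : ∀ y : ↥(D.group F), e y.1 ∈ D.group K := fun y => map_group_le D j ⟨y.1, y.2, rfl⟩
  let fr : GL D.Idx K →* GL D.Idx K := Matrix.GeneralLinearGroup.map σ
  have hfix : ∀ y : GL D.Idx F, fr (e y) = e y := fun y => by
    ext a b
    show σ (j ((y : Matrix D.Idx D.Idx F) a b)) = _
    rw [hσ, ← map_pow, ← hq, FiniteField.pow_card]
    rfl
  -- the torus over `K`
  have hmK : m ∣ Nat.card K - 1 := by rw [hcardK]
  have hrm : r ∣ m := (Arith.dvd_pow_sub_one_iff_orderOf_dvd (by omega) d).2 (hord ▸ dvd_rfl)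
  obtain ⟨g, hg⟩ := SylowLarge.exists_zmod_hom_units (K := K) (hrm.trans hmK)
  have hGK : D.group K = S.Gbar := group_eq hS
  have htau : ∀ c, S.tau hS hR hM c ∈ D.group K := fun c => by
    have hN : S.tau hS hR hM c ∈ S.Hbar := by rw [← S.tau_range hS hR hM]; exact ⟨c, rfl⟩
    rw [hGK, S.Gbar_eq hR hS]
    exact Subgroup.mem_sup_left (S.Hbar_le_Bbar hN)
  -- conjugate `x` into the split torus
  let T : (Fin D.rank → Kˣ) →* ↥(D.group K) := (S.tau hS hR hM).codRestrict _ htau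
  set v := padicValNat r m with hv
  obtain ⟨f', hf'⟩ := SylowLarge.exists_zmod_hom_units (K := K) (M := r ^ v) (pow_padicValNat_dvd.trans hmK)
  let φ : (Fin D.rank → Multiplicative (ZMod (r ^ v))) →* ↥(D.group K) := T.comp (f'.compLeft (Fin D.rank))
  have hφinj : Function.Injective φ := fun a b h =>
    tau_torus_injective hS hR hdet hrδ hf' (congrArg Subtype.val h :)
  let ψ : ↥(D.group F) →* ↥(D.group K) := (e.comp (D.group F).subtype).codRestrict _ heG
  have hxK : orderOf (ψ x) = r := by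
    rw [orderOf_injective ψ (fun a b h => Subtype.ext (he (congrArg Subtype.val h))), hx]
  obtain ⟨γ, y₀, ht₀⟩ : ∃ (γ : ↥(D.group K)) (y₀ : Fin D.rank → Multiplicative (ZMod (r ^ v))),
      γ * ψ x * γ⁻¹ = φ y₀ := by
    obtain ⟨Q, hQ⟩ := (IsPGroup.of_card (p := r) (n := 1) (by rw [Nat.card_zpowers, hxK, pow_one]) :
      IsPGroup r (Subgroup.zpowers (ψ x))).exists_le_sylow
    obtain ⟨R, hR'⟩ := (IsPGroup.of_card (p := r) (n := D.rank * v) (by
      rw [← Nat.card_congr (MonoidHom.ofInjective hφinj).toEquiv, SylowLarge.card_pi_zmod]) :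
      IsPGroup r φ.range).exists_le_sylow
    have hcard : Nat.card (R : Subgroup ↥(D.group K)) ≤ Nat.card φ.range := by
      rw [R.card_eq_multiplicity, ← Nat.card_congr (MonoidHom.ofInjective hφinj).toEquiv, SylowLarge.card_pi_zmod,
        Nat.factorization_def _ hr]
      refine Nat.pow_le_pow_right hr.pos (le_of_eq ?_)
      rw [padicValNat_group hK hr2 (hcardK ▸ SylowLarge.not_dvd_pow hrq d) hrδ hLr,
        show (Nat.card K : ZMod r) = 1 by rw [hcardK, Nat.cast_pow, ← hord, pow_orderOf_eq_one],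
        orderOf_one, cyclotomic_one, ← hLlen]
      simp only [one_dvd, decide_true, List.filter_true, eval_sub, eval_X, eval_one, hcardK]
      rw [show ((q ^ d : ℕ) : ℤ) - 1 = (m : ℤ) by
        rw [hmdef, Nat.cast_sub (Nat.one_le_pow _ _ (by omega))]; rfl, Int.natAbs_natCast]
    have hRφ : (R : Subgroup ↥(D.group K)) = φ.range := (Subgroup.eq_of_le_of_card_ge hR' hcard).symm
    obtain ⟨γ, hγ⟩ := MulAction.exists_smul_eq ↥(D.group K) Q R
    have h1 : MulAut.conj γ (ψ x) ∈ ((γ • Q : Sylow r ↥(D.group K)) : Subgroup ↥(D.group K)) := by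
      rw [Sylow.smul_def, Sylow.pointwise_smul_def, ← MulAut.smul_def]
      exact Subgroup.smul_mem_pointwise_smul _ _ _ (hQ (Subgroup.mem_zpowers _))
    rw [hγ, hRφ] at h1
    obtain ⟨y, hy⟩ := h1
    exact ⟨γ, y, hy.symm⟩
  let t₀ : Fin D.rank → Kˣ := f'.compLeft (Fin D.rank) y₀
  let t : GL D.Idx K := S.tau hS hR hM t₀
  have htx : (γ : GL D.Idx K) * e x.1 * (γ : GL D.Idx K)⁻¹ = t := congrArg Subtype.val ht₀
  have ht₀r : ∀ j, t₀ j ^ r = 1 := fun j => by
    have h1 : φ (y₀ ^ r) = φ 1 := by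
      rw [map_pow, map_one, ← ht₀, conj_pow, ← hxK, pow_orderOf_eq_one, mul_one, mul_inv_cancel]
    show t₀ j ^ r = 1
    rw [← Pi.pow_apply, show t₀ ^ r = f'.compLeft (Fin D.rank) (y₀ ^ r) from (map_pow _ _ _).symm, hφinj h1,
      map_one, Pi.one_apply]
  have hg2 : g.range = (powMonoidHom r : Kˣ →* Kˣ).ker := by
    refine Subgroup.eq_of_le_of_card_ge ?_ (le_of_eq ?_)
    · rintro _ ⟨z, rfl⟩
      rw [MonoidHom.mem_ker, powMonoidHom_apply, ← map_pow, ← map_one g]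
      congr 1
      exact Multiplicative.toAdd.injective (by simp)
    · rw [IsCyclic.card_powMonoidHom_ker, Nat.card_units, Nat.gcd_eq_right (hrm.trans hmK),
        ← Nat.card_congr (MonoidHom.ofInjective hg).toEquiv, Nat.card_congr Multiplicative.toAdd, Nat.card_zmod]
  choose z hz using fun j => MonoidHom.mem_range.1 (hg2.ge (MonoidHom.mem_ker.2 (ht₀r j)))
  let vr : Fin D.rank → ZMod r := fun j => Multiplicative.toAdd (z j)
  have htv : t₀ = fun j => g (Multiplicative.ofAdd (vr j)) := funext fun j => by simp [vr, hz]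
  have hv0 : vr ≠ 0 := by
    intro h0
    have h1 : t = 1 := by
      show S.tau hS hR hM t₀ = 1
      rw [htv, h0, ← map_one (S.tau hS hR hM)]
      exact congrArg _ (funext fun j => by simp)
    have h2 : e x.1 = 1 := by
      have := congrArg (fun y => (γ : GL D.Idx K)⁻¹ * y * γ) (htx.trans h1)
      simpa [mul_assoc] using this
    have h3 : x = 1 := Subtype.ext (he (h2.trans (map_one e).symm))
    rw [h3, orderOf_one] at hx
    exact hr.one_lt.ne hx
  -- the Weyl group element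
  have hdr' : ((cartanMat D).det : ZMod r) ≠ 0 := by
    rw [hdet, Int.cast_natCast, Ne, ZMod.natCast_eq_zero_iff]
    exact hrδ
  have hq0 : (q : ZMod r) ≠ 0 := by rwa [Ne, ZMod.natCast_eq_zero_iff]
  let h : GL D.Idx K := fr (γ : GL D.Idx K) * (γ : GL D.Idx K)⁻¹
  have hhG : h ∈ S.Gbar := by
    rw [← hGK]
    exact mul_mem (map_group_le D σ ⟨_, γ.2, rfl⟩) (inv_mem γ.2)
  have hfrt : ∀ c, fr (S.tau hS hR hM c) = S.tau hS hR hM c ^ q := fun c => map_tau hS hR σ hσ c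
  have hfrγ : fr (γ : GL D.Idx K) = h * γ := by simp [h]
  have hconj : ∀ y : GL D.Idx F, h * ((γ : GL D.Idx K) * e y * (γ : GL D.Idx K)⁻¹) * h⁻¹ =
      fr ((γ : GL D.Idx K) * e y * (γ : GL D.Idx K)⁻¹) := fun y => by
    rw [map_mul, map_mul, map_inv, hfix, hfrγ]
    group
  have hht : h * t * h⁻¹ = t ^ q := by
    rw [← hfrt, ← htx, hconj, htx]
  have hmemH : ∀ c, S.tau hS hR hM c ∈ S.Hbar := fun c => by
    rw [← S.tau_range hS hR hM]; exact ⟨c, rfl⟩
  have hGt : ∀ {y}, y ∈ S.Hbar → ∃ c, S.tau hS hR hM c = y := fun {y} hy => by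
    rwa [← S.tau_range hS hR hM] at hy
  obtain ⟨b, hb, w, -, v', hv', hdec⟩ := S.mem_NF hS hR hhG
  have hn : S.nW w * t * (S.nW w)⁻¹ = t ^ q := by
    refine conj_nW_eq S hS hR hM hb hv' (hmemH t₀) (pow_mem (hmemH t₀) q) ?_
    rw [← hdec]
    exact mul_inv_eq_iff_eq_mul.1 hht
  have hveig : vr ∈ eigMod (wMat A w) (q : ZMod r)⁻¹ := by
    refine eigen_of_conj_nW S hS hR hM hdr' g hg hq0 ?_
    rw [← htv]
    exact hn
  have hζ : orderOf (q : ZMod r)⁻¹ = d := by
    rw [← hord, orderOf_eq_orderOf_iff]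
    intro k
    rw [inv_pow, inv_eq_one]
  have hreg : ∀ s < D.nroots, ∏ j : Fin D.rank, t₀ j ^ D.cartan j s ≠ 1 := fun s hs h1 => by
    apply (hspec r hrW _ hζ w vr hveig hv0).1 s hs
    rw [htv, prod_zpow_hom, ← map_one g] at h1
    simpa [pairMod, col] using congrArg Multiplicative.toAdd (hg h1)
  have hfix' : ∀ u : List (Fin D.rank), S.nW u * t * (S.nW u)⁻¹ = t → wMat A u = 1 := fun u hu => by
    refine (hspec r hrW _ hζ w vr hveig hv0).2 u ?_
    refine eigen_one_of_conj S hS hR hM hdr' g hg ?_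
    rw [← htv]
    exact hu
  have hCK : ∀ y ∈ S.Gbar, y * t = t * y → y ∈ S.Hbar := fun y hy hc =>
    mem_Hbar_of_commute S hS hR hM hA0 hreg hfix' hy hc
  have hnG : S.nW w ∈ S.Gbar := S.Nbar_le_Gbar hS hR (S.nW_mem_Nbar w)
  have hh1 : (S.nW w)⁻¹ * h ∈ S.Hbar := by
    refine hCK _ (mul_mem (inv_mem hnG) hhG) ?_
    have e1 : S.nW w * t = t ^ q * S.nW w := mul_inv_eq_iff_eq_mul.1 hn
    have e2 : h * t = t ^ q * h := mul_inv_eq_iff_eq_mul.1 hht
    calc (S.nW w)⁻¹ * h * t = (S.nW w)⁻¹ * (S.nW w * t) * ((S.nW w)⁻¹ * h) := by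
          rw [mul_assoc, e2, e1]; group
      _ = _ := by group
  have hact : ∀ z ∈ S.Hbar, h * z * h⁻¹ = S.nW w * z * (S.nW w)⁻¹ := fun z hz => by
    have e1 : ((S.nW w)⁻¹ * h) * z = z * ((S.nW w)⁻¹ * h) := S.Hbar_comm hS hR hM _ hh1 _ hz
    calc h * z * h⁻¹ = S.nW w * (((S.nW w)⁻¹ * h) * z) * h⁻¹ := by group
      _ = _ := by rw [e1]; group
  -- the universal group
  let U := stSys hS
  have hMU := stSys_HMul hS hR
  let Tu : (Fin D.rank → Kˣ) →* D.SteinbergGroup K := U.tau hS hR hMU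
  have hTu : Function.Injective Tu := hinjT
  have hθT : ∀ c, U.θ (Tu c) = S.tau hS hR hM c := θ_tau hS hR
  let φr := stFr hS σ
  have hθφ : ∀ z, U.θ (φr z) = fr (U.θ z) := θ_stFr hS σ
  have hφT : ∀ c, φr (Tu c) = Tu c ^ q := fun c => by
    rw [← map_pow]
    refine (stFr_tau hS σ hR c).trans (congrArg Tu (funext fun j => Units.ext ?_))
    rw [Pi.pow_apply, Units.val_pow_eq_pow_val]
    exact hσ _
  obtain ⟨γu, hγu⟩ : ∃ g, U.θ g = (γ : GL D.Idx K) := by
    have : (γ : GL D.Idx K) ∈ U.θ.range := by rw [stSys_θ_range hS]; exact γ.2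
    exact this
  have hHu : ∀ z : D.SteinbergGroup K, U.θ z ∈ S.Hbar → ∃ c, Tu c = z := fun z hz => by
    obtain ⟨c, hc⟩ := hGt hz
    have h1 : (Tu c)⁻¹ * z ∈ U.θ.ker := by
      rw [MonoidHom.mem_ker, map_mul, map_inv, hθT, hc, inv_mul_cancel]
    obtain ⟨c', hc'⟩ : ∃ c', Tu c' = (Tu c)⁻¹ * z := by
      have h2 := stSys_ker_le hS h1
      rw [← U.tau_range hS hR hMU] at h2
      exact h2
    exact ⟨c * c', by rw [map_mul, hc', mul_inv_cancel_left]⟩
  let hu : D.SteinbergGroup K := φr γu * γu⁻¹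
  obtain ⟨c₁, hc₁⟩ := hHu ((U.nW w)⁻¹ * hu) (by
    rw [map_mul, map_inv, show U.θ (U.nW w) = S.nW w from θ_nW hS hR w, map_mul, map_inv, hθφ, hγu]
    exact hh1)
  refine ⟨r, ⟨hr⟩, γu, w, c₁, vr, hrW, hord, hv0, hveig, ?_⟩
  rw [show U.tau hS hR hMU c₁ = (U.nW w)⁻¹ * hu from hc₁]
  show φr γu = U.nW w * ((U.nW w)⁻¹ * (φr γu * γu⁻¹)) * γu
  group

end Cfsg.Agent.LieTori
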