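import Cfsg.Agent.Arith.LTE
import Mathlib.GroupTheory.FiniteAbelian.Basic

/-!
Homocyclic abelian groups recognised by exponent, order and `r`-rank, and the `r`-part of a product of
factors `q ^ e - 1` (owner: helper35).
-/

set_option autoImplicit false
set_option linter.style.haveILetI false

namespace Cfsg.Agent.LieTori

open Polynomial

theorem exists_equiv_pi_zmod {A : Type*} [CommGroup A] [Finite A] {r v a : ℕ} [Fact r.Prime]
    (hexp : ∀ x : A, x ^ r ^ v = 1) (hcard : Nat.card A = r ^ (v * a))
    (htor : Nat.card (powMonoidHom r : A →* A).ker ≤ r ^ a) :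
    Nonempty (A ≃* (Fin a → Multiplicative (ZMod (r ^ v)))) := by
  classical
  have hr : r.Prime := Fact.out
  rcases Nat.eq_zero_or_pos v with rfl | hv
  · rw [zero_mul, pow_zero, Nat.card_eq_one_iff_unique] at hcard
    obtain ⟨hs, hn⟩ := hcard
    haveI := hs
    haveI : Subsingleton (Multiplicative (ZMod (r ^ 0))) := by
      rw [pow_zero]; exact inferInstanceAs (Subsingleton (ZMod 1))
    exact ⟨{ toFun := fun _ _ => 1, invFun := fun _ => 1, left_inv := fun _ => Subsingleton.elim _ _,
             right_inv := fun _ => Subsingleton.elim _ _, map_mul' := fun _ _ => Subsingleton.elim _ _ }⟩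
  obtain ⟨ι, _, n, hn, ⟨eA⟩⟩ := CommGroup.equiv_prod_multiplicative_zmod_of_finite A
  haveI : ∀ i, NeZero (n i) := fun i => ⟨by have := hn i; omega⟩
  have hdvd : ∀ i, n i ∣ r ^ v := fun i => by
    have h := congrArg (fun f => Multiplicative.toAdd (f i))
      (congrArg eA (hexp (eA.symm (Pi.mulSingle i (Multiplicative.ofAdd 1)))))
    simpa [map_pow, ZMod.natCast_eq_zero_iff] using
      ((ZMod.natCast_eq_zero_iff (r ^ v) (n i)).1 (by simpa [map_pow] using h))
  have hex : ∀ i, ∃ e ≤ v, n i = r ^ e := fun i => (Nat.dvd_prime_pow hr).1 (hdvd i)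
  choose e hev he using hex
  have he1 : ∀ i, 1 ≤ e i := fun i => Nat.one_le_iff_ne_zero.2 fun h => by
    have := hn i; rw [he i, h, pow_zero] at this; omega
  have hsum : ∑ i, e i = v * a := by
    have h : Nat.card A = r ^ ∑ i, e i := by
      rw [Nat.card_congr eA.toEquiv, Nat.card_pi, ← Finset.prod_pow_eq_pow_sum]
      exact Finset.prod_congr rfl fun i _ => by
        rw [Nat.card_congr Multiplicative.toAdd, Nat.card_zmod, he i]
    exact (Nat.pow_right_injective hr.two_le (hcard.symm.trans h)).symm
  have hrank : Fintype.card ι ≤ a := by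
    have hk : Nat.card (powMonoidHom r : A →* A).ker = r ^ Fintype.card ι := by
      let E : (powMonoidHom r : A →* A).ker ≃
          ∀ i, (powMonoidHom r : Multiplicative (ZMod (n i)) →* _).ker :=
        { toFun := fun x i => ⟨eA x.1 i, by
            have h := congrArg eA (MonoidHom.mem_ker.1 x.2)
            simp only [powMonoidHom_apply, map_pow, map_one] at h
            exact MonoidHom.mem_ker.2 (congrFun h i)⟩
          invFun := fun f => ⟨eA.symm (fun i => (f i).1), by
            refine MonoidHom.mem_ker.2 (eA.injective ?_)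
            simp only [powMonoidHom_apply, map_pow, MulEquiv.apply_symm_apply, map_one]
            exact funext fun i => MonoidHom.mem_ker.1 (f i).2⟩
          left_inv := fun x => Subtype.ext (eA.symm_apply_apply _)
          right_inv := fun f => funext fun i => Subtype.ext (by simp) }
      rw [Nat.card_congr E, Nat.card_pi]
      refine (Finset.prod_congr rfl (g := fun _ => r) fun i _ => ?_).trans (by simp)
      rw [IsCyclic.card_powMonoidHom_ker, Nat.card_congr Multiplicative.toAdd, Nat.card_zmod, he i,
        Nat.gcd_eq_right (dvd_pow_self r (by have := he1 i; omega))]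
    exact (Nat.pow_le_pow_iff_right hr.one_lt).1 (hk ▸ htor)
  have h1 : ∑ i, e i ≤ Fintype.card ι * v := by
    simpa using Finset.sum_le_card_nsmul Finset.univ e v (fun i _ => hev i)
  have hcardι : Fintype.card ι = a := le_antisymm hrank (by nlinarith)
  have hall : ∀ i, e i = v := by
    have h2 : ∑ i, e i = ∑ _i : ι, v := by simp [hsum, hcardι, mul_comm]
    exact fun i => (Finset.sum_eq_sum_iff_of_le (fun i _ => hev i)).1 h2 i (Finset.mem_univ i)
  have E0 : (∀ i, Multiplicative (ZMod (n i))) ≃* (ι → Multiplicative (ZMod (r ^ v))) :=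
    MulEquiv.piCongrRight fun i =>
      AddEquiv.toMultiplicative (ZMod.ringEquivCongr (by rw [he i, hall i])).toAddEquiv
  let σ : ι ≃ Fin a := (Fintype.equivFin ι).trans (finCongr hcardι)
  exact ⟨(eA.trans E0).trans
    { toFun := fun f j => f (σ.symm j), invFun := fun g i => g (σ i),
      left_inv := fun f => funext fun i => by simp, right_inv := fun g => funext fun j => by simp,
      map_mul' := fun _ _ => rfl }⟩

/-- The `r`-part of `∏ (q ^ e - 1)`. -/
theorem padicValNat_list_prod {r q : ℕ} [Fact r.Prime] (hr2 : r ≠ 2) (hq : 1 < q) (hrq : ¬ r ∣ q)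
    (L : List ℕ) (hL : ∀ e ∈ L, ¬ r ∣ e) :
    padicValNat r (L.map fun e => q ^ e - 1).prod =
      (L.filter fun e => orderOf (q : ZMod r) ∣ e).length *
        padicValNat r ((cyclotomic (orderOf (q : ZMod r)) ℤ).eval (q : ℤ)).natAbs := by
  rw [Arith.padicValNat_cyclotomic_orderOf hq hrq]
  induction L with
  | nil => simp
  | cons e L ih =>
    have he := hL e List.mem_cons_self
    have he0 : e ≠ 0 := by rintro rfl; exact he (dvd_zero r)
    have hpos : ∀ j : ℕ, j ≠ 0 → q ^ j - 1 ≠ 0 := fun j hj =>
      Nat.sub_ne_zero_of_lt (Nat.one_lt_pow hj hq)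
    have hL' : ∀ x ∈ L, ¬ r ∣ x := fun x hx => hL x (List.mem_cons_of_mem _ hx)
    have hne : (L.map fun e => q ^ e - 1).prod ≠ 0 := by
      refine List.prod_ne_zero fun h => ?_
      obtain ⟨x, hx, hx0⟩ := List.mem_map.1 h
      exact hpos x (by rintro rfl; exact hL' 0 hx (dvd_zero r)) hx0
    rw [List.map_cons, List.prod_cons, padicValNat.mul (hpos e he0) hne, ih hL', List.filter_cons]
    by_cases hd : orderOf (q : ZMod r) ∣ e
    · rw [if_pos (by simpa using hd), List.length_cons, Arith.padicValNat_pow_sub_one hr2 hq he0 hd,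
        padicValNat.eq_zero_of_not_dvd he]
      ring
    · rw [if_neg (by simpa using hd), Arith.padicValNat_pow_sub_one_eq_zero (by omega) hd, zero_add]

end Cfsg.Agent.LieTori
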