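import Cfsg.Agent.Chev.WeylGroup
import Cfsg.Agent.ChevGrp.RootKer
import Mathlib.LinearAlgebra.Matrix.NonsingularInverse

/-!
The matrices by which a word in the fundamental reflections acts on the columns `(cartan j s)_j`
(owner: helper35).
-/

set_option autoImplicit false

namespace Cfsg.Agent.LieTori

open Cfsg.Lie Cfsg.Agent.ChevGrp Matrix
open Cfsg.Agent.CoxTower (elemOfWord wordAct)

variable {l : ℕ}

/-- A fundamental reflection on the columns. -/
def reflMat (A : Matrix (Fin l) (Fin l) ℤ) (i : Fin l) : Matrix (Fin l) (Fin l) ℤ :=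
  1 - A * Matrix.single i i 1

/-- A word in the fundamental reflections on the columns. -/
def wMat (A : Matrix (Fin l) (Fin l) ℤ) (w : List (Fin l)) : Matrix (Fin l) (Fin l) ℤ :=
  (w.map (reflMat A)).prod

theorem wMat_cons (A : Matrix (Fin l) (Fin l) ℤ) (i : Fin l) (w : List (Fin l)) :
    wMat A (i :: w) = reflMat A i * wMat A w := by simp [wMat]

theorem exists_wMat_eq (A : Matrix (Fin l) (Fin l) ℤ) (w : List (Fin l)) : ∃ N₀, wMat A w = 1 + A * N₀ := by
  induction w with
  | nil => exact ⟨0, by simp [wMat]⟩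
  | cons i w ih =>
    obtain ⟨N₀, h⟩ := ih
    exact ⟨N₀ - Matrix.single i i 1 * (1 + A * N₀), by rw [wMat_cons, h, reflMat]; noncomm_ring⟩

theorem wMat_preserves {A B : Matrix (Fin l) (Fin l) ℤ}
    (hB : ∀ i, (reflMat A i)ᵀ * B * reflMat A i = B) (w : List (Fin l)) :
    (wMat A w)ᵀ * B * wMat A w = B := by
  induction w with
  | nil => simp [wMat]
  | cons i w ih =>
    rw [wMat_cons, Matrix.transpose_mul]
    calc (wMat A w)ᵀ * (reflMat A i)ᵀ * B * (reflMat A i * wMat A w)
        = (wMat A w)ᵀ * ((reflMat A i)ᵀ * B * reflMat A i) * wMat A w := by simp only [mul_assoc]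
      _ = B := by rw [hB, ih]

theorem wMat_pow (A : Matrix (Fin l) (Fin l) ℤ) (w : List (Fin l)) (n : ℕ) :
    wMat A (List.replicate n w).flatten = wMat A w ^ n := by
  induction n with
  | zero => simp [wMat]
  | succ n ih =>
    rw [List.replicate_succ, List.flatten_cons, pow_succ', ← ih]
    simp [wMat]

theorem cElem_pow {D : ChevalleyDatum} (M : CoxeterMatrix (Fin D.rank)) (w : List (Fin D.rank)) (n : ℕ) :
    Chev.cElem M (List.replicate n w).flatten = Chev.cElem M w ^ n := by
  induction n with
  | zero => simp [Chev.cElem]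
  | succ n ih =>
    rw [List.replicate_succ, List.flatten_cons, pow_succ', ← ih, Chev.cElem, CoxeterSystem.wordProd_append]
    rfl

/-- The column of a root. -/
def col (D : ChevalleyDatum) (s : ℕ) : Fin D.rank → ℤ := fun j => D.cartan j s

variable {D : ChevalleyDatum} {len : ℕ → ℕ}

theorem col_act (hR : RootTable D len) (w : List (Fin D.rank)) {s : ℕ} (hs : s < D.nroots) :
    col D (act D w s) = wMat (cartanMat D) w *ᵥ col D s := by
  induction w with
  | nil => simp [wMat, act_nil]
  | cons i w ih =>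
    funext j
    rw [wMat_cons, ← Matrix.mulVec_mulVec, ← ih, reflMat, Matrix.sub_mulVec, Matrix.one_mulVec,
      ← Matrix.mulVec_mulVec, act_cons, col, hR.cartan_reflect j.2 i.2 (hR.act_lt w hs), Pi.sub_apply]
    simp [col, cartanMat, Matrix.mulVec, dotProduct, Matrix.single_apply, ite_and, mul_comm]

/-- A faithful presentation of the Weyl group of order `N`. -/
def WeylOrder (D : ChevalleyDatum) (N : ℕ) : Prop :=
  ∃ M : CoxeterMatrix (Fin D.rank), Nat.card M.Group = N ∧
    ∀ w : List ℕ, (∀ a ∈ w, a < D.rank) →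
      (elemOfWord M w = 1 ↔ ∀ r < D.nroots, wordAct D.reflectRoot w r = r)

theorem wMat_pow_eq_one (hR : RootTable D len) {N : ℕ} (hN : WeylOrder D N) (hdet : (cartanMat D).det ≠ 0)
    (w : List (Fin D.rank)) : wMat (cartanMat D) w ^ N = 1 := by
  obtain ⟨M, hcard, hC⟩ := hN
  have hfix : ∀ r < D.nroots, act D (List.replicate N w).flatten r = r :=
    (Chev.cElem_eq_one_iff hC _).1 (by rw [cElem_pow, ← hcard, pow_card_eq_one'])
  set A := cartanMat D
  have h : (wMat A w ^ N - 1) * A = 0 := by
    ext j k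
    have hk := hR.simple_lt k k.2
    have h1 := congrFun (col_act hR (List.replicate N w).flatten hk) j
    rw [hfix _ hk, wMat_pow] at h1
    rw [sub_mul, one_mul, Matrix.sub_apply, Matrix.mul_apply, Matrix.zero_apply, sub_eq_zero]
    simpa [col, A, cartanMat, Matrix.mulVec, dotProduct] using h1.symm
  have h2 := congrArg (· * A.adjugate) h
  simp only [mul_assoc, zero_mul, Matrix.mul_adjugate, mul_smul_comm, mul_one] at h2
  exact sub_eq_zero.1 ((smul_eq_zero.1 h2).resolve_left hdet)

end Cfsg.Agent.LieTori
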